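import Cfsg.Agent.Lib.OrthBN.Steinberg
import Cfsg.Agent.S2566

/-!
# The Steinberg character of `PΩ₄⁺(2)`

* `HasSt.inflate` : inflation along a surjection with kernel of order prime to `p`;
* `hasSt_perm_three` : the character of degree two of the symmetric group of degree three;
* `hasSt_plus_four_two` : the character on `PΩ₄⁺(2)`.
-/

set_option autoImplicit false
set_option linter.unusedSectionVars false

namespace Cfsg.Agent.OrthBN

open Cfsg Matrix
open scoped commutatorElement

/-- Inflation along a surjection whose kernel has no non-trivial `p`-element. -/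
theorem HasSt.inflate {p : ℕ} [Fact p.Prime] {G H : Type*} [Group G] [Group H] [Finite G] (f : G →* H)
    (hf : Function.Surjective f) (hker : ∀ x : G, f x = 1 → ∀ k : ℕ, x ^ p ^ k = 1 → x = 1) (h : HasSt p H) :
    HasSt p G := by
  haveI : Finite H := Finite.of_surjective _ hf
  obtain ⟨χ, hχ, hP⟩ := h
  obtain ⟨P⟩ : Nonempty (Sylow p G) := Sylow.nonempty
  have hne : ∀ x ∈ P, x ≠ 1 → f x ≠ 1 := by
    intro x hx hx1 h
    obtain ⟨k, hk⟩ := P.2 ⟨x, hx⟩
    exact hx1 (hker x h k (congrArg Subtype.val hk))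
  have hinj : Set.InjOn f (P : Set G) := by
    intro x hx y hy hxy
    by_contra hxy'
    exact hne _ (mul_mem (inv_mem hx) hy) (fun e => hxy' (inv_mul_eq_one.1 e)) (by
      rw [map_mul, map_inv, hxy, inv_mul_cancel])
  refine hasSt_of_one (Char.IsIrrCharacter.comp_surjective hχ f hf) P ?_ ?_
  · show χ (f 1) = _
    rw [map_one, (hP (P.mapSurjective hf)).1]
    congr 1
    exact Nat.card_image_of_injOn hinj
  · intro x hx hx1
    exact (hP (P.mapSurjective hf)).2 (f x) ⟨x, hx, rfl⟩ (hne x hx hx1)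

/-- The representation of degree two of the symmetric group on the vectors of sum zero. -/
def stdMat (σ : Equiv.Perm (Fin 3)) : Matrix (Fin 2) (Fin 2) ℤ := Matrix.of fun r c =>
  let v : Fin 3 → ℤ := fun i => (if σ c.castSucc = i then 1 else 0) - if σ c.succ = i then 1 else 0
  if r = 0 then v 0 else - v 2

theorem stdMat_one : stdMat 1 = 1 := by decide +kernel
theorem stdMat_mul : ∀ σ τ, stdMat (σ * τ) = stdMat σ * stdMat τ := by decide +kernel
theorem stdMat_norm : ∑ σ, (stdMat σ).trace * (stdMat σ).trace = 6 := by decide +kernel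
theorem stdMat_sq : ∀ σ : Equiv.Perm (Fin 3), σ ^ 2 = 1 → σ ≠ 1 → (stdMat σ).trace = 0 := by decide +kernel

/-- The character of degree two of the symmetric group of degree three. -/
theorem hasSt_perm_three : HasSt 2 (Equiv.Perm (Fin 3)) := by
  classical
  set χ : Equiv.Perm (Fin 3) → ℂ := fun σ => ((stdMat σ).trace : ℂ)
  let M : Equiv.Perm (Fin 3) →* Matrix (Fin 2) (Fin 2) ℂ :=
    (Int.castRingHom ℂ).mapMatrix.toMonoidHom.comp { toFun := stdMat, map_one' := stdMat_one, map_mul' := stdMat_mul }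
  let ρ : Representation ℂ (Equiv.Perm (Fin 3)) (Fin 2 → ℂ) :=
    ((Matrix.toLinAlgEquiv' (R := ℂ) (n := Fin 2)).toMonoidHom).comp M
  have hρ : ρ.character = χ := funext fun σ => by
    show LinearMap.trace ℂ _ (Matrix.toLinAlgEquiv' (M σ)) = _
    rw [show Matrix.toLinAlgEquiv' (M σ) = Matrix.toLin' (M σ) from rfl, Matrix.trace_toLin'_eq]
    simp [M, χ, Matrix.trace, Matrix.diag]
  have hc : IsCharacter _ χ := hρ ▸ Char.isCharacter_character ρ
  have h6 : Nat.card (Equiv.Perm (Fin 3)) = 6 := by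
    rw [Nat.card_eq_fintype_card, Fintype.card_perm]; rfl
  have hirr : IsIrrCharacter _ χ := by
    refine (Char.isIrrCharacter_iff_norm_one hc).2 ?_
    have hs : ∑ σ, χ σ * (starRingEnd ℂ) (χ σ) = ((∑ σ, (stdMat σ).trace * (stdMat σ).trace : ℤ) : ℂ) := by
      rw [Int.cast_sum]
      exact Finset.sum_congr rfl fun σ _ => by simp [χ]
    rw [classInner, h6, hs, stdMat_norm]
    norm_num
  obtain ⟨P⟩ : Nonempty (Sylow 2 (Equiv.Perm (Fin 3))) := Sylow.nonempty
  have hP : Nat.card (P : Subgroup (Equiv.Perm (Fin 3))) = 2 := by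
    have h : Nat.factorization (2 * 3) 2 = 1 := by
      rw [Nat.factorization_mul (by norm_num) (by norm_num), Finsupp.add_apply,
        Nat.prime_two.factorization_self, Nat.factorization_eq_zero_of_not_dvd (by norm_num : ¬ 2 ∣ 3)]
    rw [P.card_eq_multiplicity, h6, show 6 = 2 * 3 from rfl, h, pow_one]
  refine hasSt_of_one hirr P ?_ ?_
  · rw [show Nat.card P = Nat.card (P : Subgroup (Equiv.Perm (Fin 3))) from rfl, hP]
    simp [χ, stdMat_one, Matrix.trace_one]
  · intro x hx hx1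
    have h2 : x ^ 2 = 1 := by
      have h := congrArg Subtype.val (pow_card_eq_one' (x := (⟨x, hx⟩ : (P : Subgroup _))))
      rw [hP] at h
      simpa using h
    show ((stdMat x).trace : ℂ) = 0
    rw [stdMat_sq x h2 hx1, Int.cast_zero]

section Four

open Cfsg.Agent.S2566

theorem tmat_sign : ∀ σ : Equiv.Perm (Fin 3), ∃ τ, Equiv.Perm.sign τ = Equiv.Perm.sign σ ∧
    tmat * lmat σ * tmat = rmat τ := by decide +kernel

theorem tmat_sign' : ∀ σ : Equiv.Perm (Fin 3), ∃ τ, Equiv.Perm.sign τ = Equiv.Perm.sign σ ∧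
    tmat * rmat σ * tmat = lmat τ := by decide +kernel

theorem tmat_ne : ∀ σ τ : Equiv.Perm (Fin 3), tmat ≠ lmat σ * rmat τ := by decide +kernel

theorem perm_three_center : ∀ σ : Equiv.Perm (Fin 3), (∀ τ, σ * τ = τ * σ) → σ = 1 := by decide +kernel

theorem even_cube : ∀ σ : Equiv.Perm (Fin 3), Equiv.Perm.sign σ = 1 → σ ^ 3 = 1 := by decide +kernel

/-- The commutator subgroup lies among the pairs of equal sign and projects onto the first factor. -/
theorem hasSt_plus_four_two : HasSt 2 (POmega (ZMod 2) (quadFormPlus 2 (ZMod 2))) := by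
  classical
  let L := mkHom lmat lmat_one lmat_mul lmat_iso
  let R := mkHom rmat rmat_one rmat_mul rmat_iso
  let T : O4 := ⟨⟨tmat, tmat, tmat_mul, tmat_mul⟩, fun u _ => tmat_iso u⟩
  have hTT : T * T = 1 := ext_coe tmat_mul
  have hTi : T⁻¹ = T := inv_eq_of_mul_eq_one_right hTT
  have hcomm : ∀ σ τ, L σ * R τ = R τ * L σ := fun σ τ => ext_coe (lmat_rmat σ τ)
  set P := L.noncommCoprod R hcomm with hPdef
  have hPinj : Function.Injective P := by
    rw [injective_iff_map_eq_one]
    rintro ⟨σ, τ⟩ h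
    have h' : L σ * R τ = 1 := h
    rw [mul_eq_one_iff_eq_inv, ← map_inv] at h'
    obtain ⟨h1, h2⟩ := lmat_eq_rmat σ τ⁻¹ (congrArg toMat h')
    rw [inv_eq_one] at h2
    rw [h1, h2]; rfl
  have hcard : Nat.card O4 = 72 := Cfsg.Agent.S2566.result.1
  haveI : Finite O4 := Nat.finite_of_card_ne_zero (by omega)
  -- the pairs of equal sign
  let D : Subgroup (Equiv.Perm (Fin 3) × Equiv.Perm (Fin 3)) :=
    ((Equiv.Perm.sign.comp (MonoidHom.fst _ _)) / (Equiv.Perm.sign.comp (MonoidHom.snd _ _))).ker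
  have hD : ∀ x, x ∈ D ↔ Equiv.Perm.sign x.1 = Equiv.Perm.sign x.2 := fun x => by
    simp [D, MonoidHom.mem_ker, div_eq_one]
  set S := D.map P with hS
  have hTP : ∀ x, ∃ y, (x ∈ D → y ∈ D) ∧ T * P x * T = P y := by
    rintro ⟨σ, τ⟩
    obtain ⟨σ', hs, hσ⟩ := tmat_sign σ
    obtain ⟨τ', ht, hτ⟩ := tmat_sign' τ
    refine ⟨(τ', σ'), fun h => (hD _).2 ?_, ?_⟩
    · rw [hD] at h
      show Equiv.Perm.sign τ' = Equiv.Perm.sign σ'
      rw [hs, ht, h]
    · have e1 : T * L σ * T = R σ' := ext_coe hσ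
      have e2 : T * R τ * T = L τ' := ext_coe hτ
      show T * (L σ * R τ) * T = L τ' * R σ'
      rw [hcomm τ' σ', ← e1, ← e2]
      simp only [mul_assoc]
      rw [← mul_assoc T T, hTT, one_mul]
  have hnotin : T ∉ P.range := fun ⟨⟨σ, τ⟩, h⟩ => tmat_ne σ τ (congrArg toMat h).symm
  have hidx : P.range.index = 2 := by
    have hc : Nat.card ↥P.range = 36 := by
      rw [← Nat.card_congr (MonoidHom.ofInjective hPinj).toEquiv, Nat.card_prod,
        Nat.card_eq_fintype_card, Fintype.card_perm]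
      rfl
    have h := Subgroup.index_mul_card P.range
    rw [hc, hcard] at h
    omega
  have hdec : ∀ g : O4, g ∈ P.range ∨ T * g ∈ P.range := fun g => by
    by_cases hg : g ∈ P.range
    · exact Or.inl hg
    · exact Or.inr ((Subgroup.mul_mem_iff_of_index_two hidx).2 (iff_of_false hnotin hg))
  have key : ∀ a b s : ℤˣ, a * s * a⁻¹ = b * s * b⁻¹ := fun a b s => by
    rw [mul_inv_cancel_comm, mul_inv_cancel_comm]
  have hnorm : S.Normal := ⟨fun n hn g => by
    obtain ⟨x, hx, rfl⟩ := hn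
    rcases hdec g with ⟨y, rfl⟩ | ⟨y, hy⟩
    · refine ⟨y * x * y⁻¹, (hD _).2 ?_, by simp⟩
      have h := (hD x).1 hx
      simp only [map_mul, map_inv, h, Prod.fst_mul, Prod.snd_mul, Prod.fst_inv, Prod.snd_inv]
      exact key _ _ _
    · obtain ⟨z, hz, hzE⟩ := hTP (y * x * y⁻¹)
      refine ⟨z, hz ((hD _).2 (by
        have h := (hD x).1 hx
        simp only [map_mul, map_inv, h, Prod.fst_mul, Prod.snd_mul, Prod.fst_inv, Prod.snd_inv]
        exact key _ _ _)), ?_⟩
      rw [← hzE, map_mul, map_mul, map_inv, hy, _root_.mul_inv_rev, hTi]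
      simp only [mul_assoc]
      rw [← mul_assoc T T, hTT, one_mul]
      simp only [← mul_assoc]
      rw [mul_one]⟩
  have hSle : ∀ x, x ∈ Omega (ZMod 2) (quadFormPlus 2 (ZMod 2)) → x ∈ S := by
    have hcD : Nat.card ↥S = Nat.card ↥D := Subgroup.card_map_of_injective hPinj
    have hDi : D.index = 2 := by
      rw [Subgroup.index_ker, MonoidHom.range_eq_top.2 (fun u => ?_), Subgroup.card_top, Nat.card_eq_fintype_card,
        Fintype.card_units_int]
      obtain ⟨σ, hσ⟩ := Equiv.Perm.sign_surjective (Fin 3) u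
      exact ⟨(σ, 1), by simp [hσ]⟩
    have hS4 : S.index = 2 ^ 2 := by
      have h := Subgroup.index_mul_card S
      have h' := Subgroup.index_mul_card D
      rw [hDi, Nat.card_prod, Nat.card_eq_fintype_card (α := Equiv.Perm (Fin 3)), Fintype.card_perm,
        Fintype.card_fin, show Nat.factorial 3 = 6 from rfl] at h'
      rw [hcD, hcard] at h
      norm_num
      nlinarith
    haveI := hnorm
    have hab : ∀ a b : O4 ⧸ S, a * b = b * a := by
      haveI : Fact (Nat.Prime 2) := ⟨Nat.prime_two⟩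
      intro a b
      exact (IsPGroup.isMulCommutative_of_card_eq_prime_sq (G := O4 ⧸ S) (p := 2)
        (by rw [← Subgroup.index_eq_card, hS4])).is_comm.comm a b
    refine fun x hx => (show Omega (ZMod 2) (quadFormPlus 2 (ZMod 2)) ≤ S from ?_) hx
    rw [Omega, commutator_def, Subgroup.commutator_le]
    intro a _ b _
    refine (QuotientGroup.eq_one_iff _).1 ?_
    rw [← QuotientGroup.mk'_apply, map_commutatorElement, commutatorElement_eq_one_iff_mul_comm]
    exact hab _ _
  set K := Omega (ZMod 2) (quadFormPlus 2 (ZMod 2))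
  let e := MonoidHom.ofInjective hPinj
  have hle : K ≤ P.range := fun x hx => Subgroup.map_le_range P D (hSle x hx)
  let f : ↥K →* Equiv.Perm (Fin 3) := (MonoidHom.fst _ _).comp (e.symm.toMonoidHom.comp (Subgroup.inclusion hle))
  have hfP : ∀ (y) (h : P y ∈ K), f ⟨P y, h⟩ = y.1 := fun y h => by
    show (e.symm ⟨P y, _⟩).1 = _
    rw [show (⟨P y, hle h⟩ : P.range) = e y from rfl, e.symm_apply_apply]
  have hfsurj : Function.Surjective f := by
    intro σ
    obtain ⟨τ, -, hτ⟩ := tmat_sign σ⁻¹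
    have e1 : T * L σ⁻¹ * T = R τ := ext_coe hτ
    have hmem : P (σ, τ) ∈ K := by
      have h : ⁅T, L σ⁻¹⁆ ∈ K := Subgroup.commutator_mem_commutator (Subgroup.mem_top _) (Subgroup.mem_top _)
      rw [commutatorElement_def, hTi, e1, map_inv, inv_inv, ← hcomm] at h
      exact h
    exact ⟨⟨_, hmem⟩, hfP _ _⟩
  have hker : ∀ x : ↥K, f x = 1 → x ^ 3 = 1 := by
    rintro ⟨x, hx⟩ hfx
    obtain ⟨y, hy, rfl⟩ := hSle x hx
    rw [hfP] at hfx
    have h2 : y.2 ^ 3 = 1 := even_cube _ (by rw [← (hD y).1 hy, hfx, map_one])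
    refine Subtype.ext ?_
    show P y ^ 3 = 1
    rw [← map_pow, show y ^ 3 = 1 from Prod.ext (by simp [hfx]) (by simp [h2]), map_one]
  have hZ : Subgroup.center ↥K ≤ f.ker := fun z hz => perm_three_center _ fun τ => by
    obtain ⟨g, rfl⟩ := hfsurj τ
    rw [← map_mul, ← map_mul, Subgroup.mem_center_iff.1 hz g]
  show HasSt 2 (↥K ⧸ Subgroup.center ↥K)
  refine hasSt_perm_three.inflate (QuotientGroup.lift _ f hZ) (fun τ => ?_) ?_
  · obtain ⟨g, rfl⟩ := hfsurj τ
    exact ⟨g, rfl⟩
  · intro x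
    induction x using QuotientGroup.induction_on with
    | _ u =>
      intro hu k hk
      have h3 : (u : ↥K ⧸ Subgroup.center ↥K) ^ 3 = 1 := by
        rw [← QuotientGroup.mk_pow, hker u hu, QuotientGroup.mk_one]
      have hco : Nat.Coprime (2 ^ k) 3 := Nat.Coprime.pow_left _ (by norm_num)
      have := pow_gcd_eq_one.2 ⟨hk, h3⟩
      rwa [hco, pow_one] at this

end Four

/-- Isomorphic isometry groups have isomorphic projective commutator groups. -/
theorem pomega_congr {ι ι' : Type} [Fintype ι] [DecidableEq ι] [Fintype ι'] [DecidableEq ι'] {F : Type*} [Field F]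
    {F' : Type*} [Field F'] {Qf : (ι → F) → F} {Qg : (ι' → F') → F'}
    (e : ↥(isometryGroup F Qf) ≃* ↥(isometryGroup F' Qg)) : Nonempty (POmega F Qf ≃* POmega F' Qg) := by
  have h : (Omega F Qf).map e.toMonoidHom = Omega F' Qg := by
    rw [Omega, Omega, commutator_def, commutator_def, Subgroup.map_commutator,
      Subgroup.map_top_of_surjective _ e.surjective]
  let e' : ↥(Omega F Qf) ≃* ↥(Omega F' Qg) :=
    ((Omega F Qf).equivMapOfInjective e.toMonoidHom e.injective).trans (MulEquiv.subgroupCongr h)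
  refine ⟨QuotientGroup.congr _ _ e' ?_⟩
  ext z
  simp only [Subgroup.mem_map, Subgroup.mem_center_iff]
  constructor
  · rintro ⟨w, hw, rfl⟩ g
    obtain ⟨u, rfl⟩ := e'.surjective g
    exact ((map_mul e' u w).symm.trans (congrArg e' (hw u))).trans (map_mul e' w u)
  · intro hz
    obtain ⟨w, rfl⟩ := e'.surjective z
    refine ⟨w, fun u => e'.injective ?_, rfl⟩
    rw [map_mul, map_mul, hz]

/-- The character on `PΩ₄⁺` over any field of two elements. -/
theorem hasSt_plus_four_card_two {F : Type*} [Field F] [Fintype F] (hF : Fintype.card F = 2) :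
    HasSt 2 (POmega F (quadFormPlus 2 F)) := by
  let e : ZMod 2 ≃+* F := ZMod.ringEquivOfPrime F Nat.prime_two hF
  let E : GL (Fin 2 ⊕ Fin 2) (ZMod 2) ≃* GL (Fin 2 ⊕ Fin 2) F := Units.mapEquiv e.mapMatrix.toMulEquiv
  have hmv : ∀ (g : GL (Fin 2 ⊕ Fin 2) (ZMod 2)) (v : Fin 2 ⊕ Fin 2 → ZMod 2),
      (E g).1 *ᵥ (e ∘ v) = e ∘ (g.1 *ᵥ v) := fun g v => funext fun i => by
    simp [E, Matrix.mulVec, dotProduct, map_sum]
  have hq : ∀ v, quadFormPlus 2 F (e ∘ v) = e (quadFormPlus 2 (ZMod 2) v) := fun v => by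
    simp [quadFormPlus, map_sum]
  have hmem : ∀ g, g ∈ isometryGroup (ZMod 2) (quadFormPlus 2 (ZMod 2)) ↔ E g ∈ isometryGroup F (quadFormPlus 2 F) := by
    intro g
    constructor
    · intro hg u _
      obtain ⟨v, rfl⟩ : ∃ v, e ∘ v = u := ⟨e.symm ∘ u, funext fun i => by simp⟩
      show quadFormPlus 2 F ((E g).1 *ᵥ (e ∘ v)) = quadFormPlus 2 F (e ∘ v)
      rw [hmv, hq, hq]
      exact congrArg e (hg v v)
    · intro hg u _
      have h := hg (e ∘ u) (e ∘ u)
      refine e.injective ?_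
      rw [← hq, ← hq]
      show quadFormPlus 2 F (e ∘ (g.1 *ᵥ u)) = _
      rw [← hmv]
      exact h
  have hmap : (isometryGroup (ZMod 2) (quadFormPlus 2 (ZMod 2))).map E.toMonoidHom =
      isometryGroup F (quadFormPlus 2 F) := by
    ext x
    obtain ⟨g, rfl⟩ := E.surjective x
    exact ⟨fun ⟨g', hg', h⟩ => E.injective h ▸ (hmem g').1 hg', fun h => ⟨g, (hmem g).2 h, rfl⟩⟩
  obtain ⟨r⟩ := pomega_congr ((Subgroup.equivMapOfInjective _ E.toMonoidHom E.injective).trans
    (MulEquiv.subgroupCongr hmap))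
  haveI : Finite (POmega (ZMod 2) (quadFormPlus 2 (ZMod 2))) := inferInstance
  exact HasSt.of_equiv r.symm hasSt_plus_four_two

end Cfsg.Agent.OrthBN
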