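import Cfsg.Agent.Lib.OrthBN.Core
import Cfsg.Agent.Lib.Orth.Models

/-!
# Steinberg characters of the standard orthogonal groups

* `frameOdd`, `framePlus`, `frameMinus` : the standard frames;
* `hasSt_odd`, `hasSt_minus`, `hasSt_plus` : the characters on `PΩ` (plus type: not `m = 2`, `q = 2`).
-/

set_option autoImplicit false
set_option linter.unusedSectionVars false

namespace Cfsg.Agent.OrthBN

open Cfsg Matrix Module Cfsg.Agent.Orth
open QuadraticMap (polar)
open scoped commutatorElement

variable {F : Type*} [Field F] [Fintype F]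
variable {ι : Type} [Fintype ι] [DecidableEq ι] {Q : QuadraticForm F (ι → F)}

/-- Transfer to `Ω` when it is generated by the Eichler transformations. -/
theorem hasSt_omega_of_eq {p : ℕ} (h : Omega F ⇑Q = eichGen Q)
    (hs : HasSt p (↥(eichGen Q) ⧸ Subgroup.center ↥(eichGen Q))) : HasSt p (POmega F ⇑Q) := by
  show HasSt p (↥(Omega F ⇑Q) ⧸ Subgroup.center ↥(Omega F ⇑Q))
  rw [h]; exact hs

theorem two_eq_zero_char (p : ℕ) [Fact p.Prime] [CharP F p] (h2 : (2 : F) = 0) : p = 2 := by
  have h := (CharP.cast_eq_zero_iff F p 2).1 (by exact_mod_cast h2)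
  exact (Nat.prime_dvd_prime_iff_eq Fact.out Nat.prime_two).1 h

/-- When `Ω` lies in the torus its order is prime to `p`. -/
theorem hasSt_of_omega_le_torus (p : ℕ) [Fact p.Prime] [CharP F p] {m : ℕ} (Φ : OFrame Q m)
    (hline : Φ.LineCore) (hG : Good Q) (hle : Omega F ⇑Q ≤ Φ.torus) : HasSt p (POmega F ⇑Q) := by
  classical
  refine hasSt_trivial fun hdvd => ?_
  have hd : p ∣ Nat.card ↥(Omega F ⇑Q) := hdvd.trans (Subgroup.card_quotient_dvd_card _)
  obtain ⟨⟨g, hg⟩, hord⟩ := exists_prime_orderOf_dvd_card' p hd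
  have hgp : g ^ p ^ 1 = 1 := by
    have := congrArg Subtype.val (pow_orderOf_eq_one (⟨g, hg⟩ : ↥(Omega F ⇑Q)))
    rw [hord] at this
    simpa using this
  have h1 : g = 1 := Φ.torus_eq_one p hline (G := Omega F ⇑Q)
    (fun _ x hx hx0 hmem => by
      have h := ((mem_omega_iff hG _).1 hmem).1
      rw [dick_refl Φ.nd fun h => hx0 (Φ.aniso x hx h)] at h
      norm_num at h) g hg (hle hg) 1 hgp
  subst h1
  rw [show (⟨1, hg⟩ : ↥(Omega F ⇑Q)) = 1 from rfl, orderOf_one] at hord
  exact (Fact.out : p.Prime).ne_one hord.symm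

/-- The `p`-elements of the torus in `eichGen Q`, for a good form. -/
theorem htor_of_good (p : ℕ) [Fact p.Prime] [CharP F p] {m : ℕ} (Φ : OFrame Q m) (hline : Φ.LineCore)
    (hG : Good Q) (hle : eichGen Q ≤ Omega F ⇑Q) :
    ∀ t ∈ eichGen Q, t ∈ Φ.torus → ∀ k : ℕ, t ^ p ^ k = 1 → t = 1 :=
  Φ.torus_eq_one p hline fun _ x hx hx0 hmem => by
    have h := ((mem_omega_iff hG _).1 (hle hmem)).1
    rw [dick_refl Φ.nd fun h => hx0 (Φ.aniso x hx h)] at h
    norm_num at h

/-! ### Odd dimension -/

/-- The standard frame in odd dimension. -/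
def frameOdd (m : ℕ) (h2 : (2 : F) ≠ 0) : OFrame (quadOdd m F) m where
  v b := Pi.single (.inr b) 1
  sing b := by rcases b with b | b <;> simp [coe_quadOdd, quadFormOdd, Pi.single_apply]
  pl a b := by
    rw [coe_quadOdd, polar_quadOdd]
    rcases a with a | a <;> rcases b with b | b <;> simp [Pi.single_apply, eq_comm]
  aniso x hx hQ := by
    have hb : ∀ b, x (.inr b) = 0 := fun b => by
      rcases b with b | b
      · simpa [coe_quadOdd, polar_quadOdd, Pi.single_apply] using hx (.inr b)
      · simpa [coe_quadOdd, polar_quadOdd, Pi.single_apply] using hx (.inl b)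
    funext i
    rcases i with i | i
    · simpa [coe_quadOdd, quadFormOdd, hb] using hQ
    · exact hb i
  nd := quadOdd_nondeg m h2

theorem frameOdd_off {m : ℕ} {h2 : (2 : F) ≠ 0} {x : Unit ⊕ (Fin m ⊕ Fin m) → F}
    (hx : (frameOdd m h2).Off x) : x = x (.inl ()) • Pi.single (.inl ()) 1 := by
  have hb : ∀ b, x (.inr b) = 0 := fun b => by
    rcases b with b | b
    · simpa [frameOdd, coe_quadOdd, polar_quadOdd, Pi.single_apply] using hx (.inr b)
    · simpa [frameOdd, coe_quadOdd, polar_quadOdd, Pi.single_apply] using hx (.inl b)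
  funext i
  rcases i with i | i
  · simp
  · simp [hb]

theorem hasSt_odd (p : ℕ) [Fact p.Prime] [CharP F p] (hodd : Odd (Fintype.card F)) (m : ℕ) (hm : 1 ≤ m) :
    HasSt p (POmega F (quadFormOdd m F)) := by
  have h2 : (2 : F) ≠ 0 := fun h2 => by
    have hc : ringChar F = 2 := CharP.ringChar_of_prime_eq_zero Nat.prime_two (by exact_mod_cast h2)
    have := (FiniteField.even_card_iff_char_two).1 hc
    rw [Nat.odd_iff] at hodd
    omega
  set Φ := frameOdd (F := F) m h2
  have hcard : Fintype.card (Unit ⊕ (Fin m ⊕ Fin m)) = 2 * m + 1 := by simp; omega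
  have hcore : Φ.HasCore := ⟨Pi.single (.inl ()) 1, fun b => by
    simp [Φ, frameOdd, coe_quadOdd, polar_quadOdd, Pi.single_apply], by simp⟩
  have hG := Good.of_two_ne_zero (quadOdd_nondeg m h2) h2
  have hle : eichGen (quadOdd m F) ≤ Omega F ⇑(quadOdd m F) :=
    eichGen_le_omega hG.nd (by omega) (.inl (exists_scalar_of_two_ne_zero h2))
  have hline : Φ.LineCore := fun x y z _ hy hz _ hy0 _ _ => by
    have hy1 : y (.inl ()) ≠ 0 := fun h => hy0 (by rw [frameOdd_off hy, h, zero_smul])
    refine ⟨z (.inl ()) / y (.inl ()), ?_⟩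
    have key : (z (.inl ()) / y (.inl ())) • (y (.inl ()) • (Pi.single (.inl ()) 1 : Unit ⊕ (Fin m ⊕ Fin m) → F)) =
        z (.inl ()) • Pi.single (.inl ()) 1 := by rw [smul_smul, div_mul_cancel₀ _ hy1]
    rw [← frameOdd_off hy, ← frameOdd_off hz] at key
    exact key.symm
  have heq : Omega F ⇑(quadOdd m F) = eichGen (quadOdd m F) := by
    refine le_antisymm ?_ hle
    rcases Nat.lt_or_ge m 2 with h | h
    · obtain rfl : m = 1 := by omega
      refine Φ.omega_le_eichGen_of_torus (by omega) fun a ha b hb => ?_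
      suffices ⁅a, b⁆ = 1 by rw [this]; exact one_mem _
      rw [commutatorElement_eq_one_iff_mul_comm]
      have hoff : ∀ t ∈ Φ.torus, ∃ r : F, ap t (Pi.single (.inl ()) 1) = r • Pi.single (.inl ()) 1 := fun t ht =>
        ⟨_, frameOdd_off (h2 := h2) (Φ.mono_off (Φ.torus_le_mono ht) (fun b => by
          simp [Φ, frameOdd, coe_quadOdd, polar_quadOdd, Pi.single_apply]))⟩
      refine Φ.ext_of (fun c => ?_) fun w hw => ?_
      · obtain ⟨l, hl⟩ := ha c
        obtain ⟨k, hk⟩ := hb c
        rw [ap_mul, ap_mul, hk, map_smul, hl, map_smul, hk, smul_smul, smul_smul, mul_comm]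
      · obtain ⟨l, hl⟩ := hoff a ha
        obtain ⟨k, hk⟩ := hoff b hb
        rw [frameOdd_off hw]
        simp only [map_smul, ap_mul, hk, hl, smul_smul]
        congr 1
        ring
    · exact omega_le_eichGen hG (by omega)
  exact hasSt_omega_of_eq heq
    (Φ.hasSt_quot (by omega) (by omega) (.inl hcore) p (htor_of_good p Φ hline hG hle))

/-! ### Minus type -/

/-- The standard frame of minus type. -/
def frameMinus (m : ℕ) {a b : F} (hab : Aniso a b) : OFrame (quadMinus m F a b) m where
  v c := Pi.single (.inl c) 1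
  sing c := by rcases c with c | c <;> simp [coe_quadMinus, quadFormMinus, Pi.single_apply]
  pl c d := by
    rw [coe_quadMinus, polar_quadMinus]
    rcases c with c | c <;> rcases d with d | d <;> simp [Pi.single_apply, eq_comm]
  aniso x hx hQ := by
    have hb : ∀ c, x (.inl c) = 0 := fun c => by
      rcases c with c | c
      · simpa [coe_quadMinus, polar_quadMinus, Pi.single_apply] using hx (.inr c)
      · simpa [coe_quadMinus, polar_quadMinus, Pi.single_apply] using hx (.inl c)
    obtain ⟨h0, h1⟩ := hab (x (.inr 0)) (x (.inr 1)) (by simpa [coe_quadMinus, quadFormMinus, hb] using hQ)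
    funext i
    rcases i with i | i
    · exact hb i
    · fin_cases i <;> assumption
  nd := quadMinus_nondeg m hab

theorem frameMinus_off {m : ℕ} {a b : F} {hab : Aniso a b} {x : (Fin m ⊕ Fin m) ⊕ Fin 2 → F}
    (hx : (frameMinus m hab).Off x) (c : Fin m ⊕ Fin m) : x (.inl c) = 0 := by
  rcases c with c | c
  · simpa [frameMinus, coe_quadMinus, polar_quadMinus, Pi.single_apply] using hx (.inr c)
  · simpa [frameMinus, coe_quadMinus, polar_quadMinus, Pi.single_apply] using hx (.inl c)

theorem frameMinus_line {m : ℕ} {a b : F} (hab : Aniso a b) : (frameMinus m hab).LineCore := by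
  intro x y z hx hy hz hx0 hy0 hxy hxz
  rw [coe_quadMinus, polar_quadMinus] at hxy hxz
  simp [frameMinus_off hx, frameMinus_off hy, frameMinus_off hz] at hxy hxz
  set x0 := x (.inr 0); set x1 := x (.inr 1)
  set y0 := y (.inr 0); set y1 := y (.inr 1)
  set z0 := z (.inr 0); set z1 := z (.inr 1)
  set L0 := 2 * x0 + a * x1 with hL0
  set L1 := a * x0 + 2 * b * x1 with hL1
  have hy' : L0 * y0 + L1 * y1 = 0 := by rw [hL0, hL1]; linear_combination hxy
  have hz' : L0 * z0 + L1 * z1 = 0 := by rw [hL0, hL1]; linear_combination hxz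
  have hd : z0 * y1 - z1 * y0 = 0 := by
    by_contra hd
    have k0 : L0 = 0 := (mul_eq_zero.1 (show (z0 * y1 - z1 * y0) * L0 = 0 by
      linear_combination y1 * hz' - z1 * hy')).resolve_left hd
    have k1 : L1 = 0 := (mul_eq_zero.1 (show (z0 * y1 - z1 * y0) * L1 = 0 by
      linear_combination z0 * hy' - y0 * hz')).resolve_left hd
    have e0 : (a * a - 4 * b) * x0 = 0 := by linear_combination a * k1 - 2 * b * k0
    have e1 : (a * a - 4 * b) * x1 = 0 := by linear_combination a * k0 - 2 * k1
    refine hx0 (funext fun i => ?_)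
    rcases i with i | i
    · exact frameMinus_off hx i
    · fin_cases i
      · exact (mul_eq_zero.1 e0).resolve_left hab.disc_ne_zero
      · exact (mul_eq_zero.1 e1).resolve_left hab.disc_ne_zero
  by_cases h0 : y0 = 0
  · have h1 : y1 ≠ 0 := fun h1 => hy0 (funext fun i => by
      rcases i with i | i
      · exact frameMinus_off hy i
      · fin_cases i <;> assumption)
    refine ⟨z1 / y1, funext fun i => ?_⟩
    rcases i with i | i
    · simp [frameMinus_off hy, frameMinus_off hz]
    · fin_cases i
      · show z0 = z1 / y1 * y0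
        rw [h0, mul_zero]
        rw [h0, mul_zero, sub_zero] at hd
        exact (mul_eq_zero.1 hd).resolve_right h1
      · show z1 = z1 / y1 * y1
        rw [div_mul_cancel₀ _ h1]
  · refine ⟨z0 / y0, funext fun i => ?_⟩
    rcases i with i | i
    · simp [frameMinus_off hy, frameMinus_off hz]
    · fin_cases i
      · show z0 = z0 / y0 * y0
        rw [div_mul_cancel₀ _ h0]
      · show z1 = z0 / y0 * y1
        field_simp
        linear_combination -hd

theorem hasSt_minus (p : ℕ) [Fact p.Prime] [CharP F p] (m : ℕ) {a b : F} (hab : Aniso a b) :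
    HasSt p (POmega F (quadFormMinus m F a b)) := by
  classical
  set Φ := frameMinus m hab
  have hline : Φ.LineCore := frameMinus_line hab
  have hcard : Fintype.card ((Fin m ⊕ Fin m) ⊕ Fin 2) = 2 * m + 2 := by simp; omega
  have hnd : (quadMinus _ F a b).polarBilin.Nondegenerate := quadMinus_nondeg m hab
  rcases Nat.eq_zero_or_pos m with rfl | hm
  · exact hasSt_of_omega_le_torus p Φ hline (Good.of_card hnd (.inr (by omega)))
      fun g _ c => (IsEmpty.false c).elim
  set k₀ : (Fin m ⊕ Fin m) ⊕ Fin 2 → F := Pi.single (.inr 0) 1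
  have hk₀ : Φ.Off k₀ := fun c => by simp [Φ, k₀, frameMinus, coe_quadMinus, polar_quadMinus, Pi.single_apply]
  have hcore : Φ.HasCore := ⟨k₀, hk₀, by simp [k₀]⟩
  by_cases hsp : Fintype.card F = 2 ∧ m = 1
  · obtain ⟨hq, rfl⟩ := hsp
    have hF : ∀ x : F, x ≠ 0 → x = 1 := fun x hx => by
      have := FiniteField.pow_card_sub_one_eq_one x hx
      rwa [hq, pow_one] at this
    have h2 : (2 : F) = 0 := by
      by_contra h
      exact one_ne_zero (show (1 : F) = 0 by linear_combination hF 2 h)
    have heq : Omega F ⇑(quadMinus 1 F a b) = eichGen (quadMinus 1 F a b) := by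
      refine le_antisymm (Φ.omega_le_eichGen_of_torus (by omega) ?_) (OFrame.eichGen_le_omega_of_aniso Φ (by omega))
      have hQk : ∀ x, Φ.Off x → x ≠ 0 → (quadMinus _ F a b) x = 1 := fun x hx h0 => hF _ fun h => h0 (Φ.aniso x hx h)
      have hk0 : k₀ ≠ 0 := by simp [k₀]
      -- a torus element is trivial or the fixed reflection, modulo `eichGen`
      have hcl : ∀ t ∈ Φ.torus, QuotientGroup.mk' (eichGen (quadMinus _ F a b)) t ∈
          Subgroup.zpowers (QuotientGroup.mk' (eichGen (quadMinus _ F a b)) (refl (quadMinus _ F a b) k₀)) := by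
        intro t ht
        have hv : ∀ c, ap t (Φ.v c) = Φ.v c := fun c => by
          obtain ⟨l, hl⟩ := ht c
          rw [hl, hF l (Φ.sends_ne_zero hl), one_smul]
        have hfixed : ∀ s : IsoGrp (quadMinus _ F a b), (∀ c, ap s (Φ.v c) = Φ.v c) → ap s k₀ = k₀ →
            QuotientGroup.mk' (eichGen (quadMinus _ F a b)) s ∈
              Subgroup.zpowers (QuotientGroup.mk' (eichGen (quadMinus _ F a b)) (refl (quadMinus _ F a b) k₀)) := by
          intro s hs hsk
          rcases Φ.fix_cases hline h2 hs hk₀ hk0 hsk with h | h <;> rw [h]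
          · rw [map_one]; exact one_mem _
          · exact Subgroup.mem_zpowers _
        by_cases htk : ap t k₀ = k₀
        · exact hfixed t hv htk
        set u := k₀ - ap t k₀ with hu
        have huo : Φ.Off u := Φ.off_sub hk₀ (Φ.off_ap hv hk₀)
        have hu0 : u ≠ 0 := fun h => htk (sub_eq_zero.1 h).symm
        set r := refl (quadMinus _ F a b) u
        have hrk : ap (r * t) k₀ = k₀ := by
          rw [ap_mul, refl_ap, hQk u huo hu0, inv_one, one_mul]
          have h1 : polar ⇑(quadMinus _ F a b) u (ap t k₀) = -(quadMinus _ F a b) u := by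
            rw [hu, pl_sub_left, Q_sub, Q_ap, pl_self, Q_ap]; ring
          rw [h1, hQk u huo hu0, neg_one_smul, sub_neg_eq_add, hu, add_sub_cancel]
        have h1 := hfixed (r * t) (fun c => by rw [ap_mul, hv, Φ.refl_fix huo]) hrk
        have h2' : QuotientGroup.mk' (eichGen (quadMinus _ F a b)) r = (QuotientGroup.mk' (eichGen (quadMinus _ F a b)) (refl (quadMinus _ F a b) k₀)) := by
          have hmem : refl (quadMinus _ F a b) k₀ * refl (quadMinus _ F a b) u ∈ eichGen (quadMinus _ F a b) :=
            refl_mul_refl_mem_eichGen (Φ.hpair (.inl 0)) hnd (by omega) (by rw [hQk k₀ hk₀ hk0]; exact one_ne_zero)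
              (by rw [hQk k₀ hk₀ hk0, hQk u huo hu0])
          have h3 := (QuotientGroup.eq_one_iff _).2 hmem
          rw [QuotientGroup.mk_mul, mul_eq_one_iff_eq_inv, ← QuotientGroup.mk_inv, refl_inv] at h3
          exact h3.symm
        have : QuotientGroup.mk' (eichGen (quadMinus _ F a b)) t =
            (QuotientGroup.mk' (eichGen (quadMinus _ F a b)) r)⁻¹ * QuotientGroup.mk' (eichGen (quadMinus _ F a b)) (r * t) := by
          rw [map_mul, inv_mul_cancel_left]
        rw [this, h2']
        exact mul_mem (inv_mem (Subgroup.mem_zpowers _)) h1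
      intro s hs t ht
      obtain ⟨i, hi⟩ := Subgroup.mem_zpowers_iff.1 (hcl s hs)
      obtain ⟨j, hj⟩ := Subgroup.mem_zpowers_iff.1 (hcl t ht)
      refine (QuotientGroup.eq_one_iff _).1 ?_
      rw [← QuotientGroup.mk'_apply, map_commutatorElement, ← hi, ← hj, commutatorElement_eq_one_iff_mul_comm]
      exact (Commute.zpow_zpow_self _ i j).eq
    exact hasSt_omega_of_eq heq (Φ.hasSt_quot one_pos (by omega) (.inl hcore) p
      (Φ.torus_eq_one p hline fun _ x hx hx0 => OFrame.refl_not_mem_eichGen Φ (by omega)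
        fun h => hx0 (Φ.aniso x hx h)))
  · have hor : Fintype.card F ≠ 2 ∨ 2 ≤ m := (not_and_or.1 hsp).imp_right fun h => by omega
    have hG : Good (quadMinus _ F a b) := Good.of_card hnd (hor.imp_right fun h => by omega)
    have hsc : (∃ c : F, c ≠ 0 ∧ c ≠ 1) ∨ 5 ≤ Fintype.card ((Fin m ⊕ Fin m) ⊕ Fin 2) :=
      hor.imp exists_scalar_of_card fun h => by omega
    have heq := omega_eq_eichGen hG (by omega) hsc
    exact hasSt_omega_of_eq heq
      (Φ.hasSt_quot hm (by omega) (.inl hcore) p (htor_of_good p Φ hline hG heq.ge))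

/-! ### Plus type -/

/-- The standard frame of plus type. -/
def framePlus (m : ℕ) : OFrame (quadPlus m F) m where
  v c := Pi.single c 1
  sing c := by rcases c with c | c <;> simp [coe_quadPlus, quadFormPlus, Pi.single_apply]
  pl c d := by
    rw [coe_quadPlus, polar_quadPlus]
    rcases c with c | c <;> rcases d with d | d <;> simp [Pi.single_apply, eq_comm]
  aniso x hx _ := funext fun c => by
    rcases c with c | c
    · simpa [coe_quadPlus, polar_quadPlus, Pi.single_apply] using hx (.inr c)
    · simpa [coe_quadPlus, polar_quadPlus, Pi.single_apply] using hx (.inl c)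
  nd := quadPlus_nondeg m

theorem framePlus_off {m : ℕ} {x : Fin m ⊕ Fin m → F} (hx : (framePlus m).Off x) : x = 0 := funext fun c => by
  rcases c with c | c
  · simpa [framePlus, coe_quadPlus, polar_quadPlus, Pi.single_apply] using hx (.inr c)
  · simpa [framePlus, coe_quadPlus, polar_quadPlus, Pi.single_apply] using hx (.inl c)

theorem hasSt_plus (p : ℕ) [Fact p.Prime] [CharP F p] (m : ℕ) (hm : 1 ≤ m)
    (hne : ¬ (Fintype.card F = 2 ∧ m = 2)) : HasSt p (POmega F (quadFormPlus m F)) := by
  classical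
  set Φ := framePlus (F := F) m
  have hcard : Fintype.card (Fin m ⊕ Fin m) = 2 * m := by simp; omega
  have hline : Φ.LineCore := fun x y z hx _ _ hx0 _ _ _ => absurd (framePlus_off hx) hx0
  rcases Nat.lt_or_ge m 2 with h | h
  · obtain rfl : m = 1 := by omega
    have hG : Good (quadPlus _ F) := Good.of_card (quadPlus_nondeg 1) (.inr (by omega))
    refine hasSt_of_omega_le_torus p Φ hline hG fun g hg => ?_
    -- an isometry exchanging the two singular lines is a reflection
    have hg' := ((mem_omega_iff hG g).1 hg).1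
    have hsing : ∀ c, (∃ l : F, ap g (Φ.v c) = l • Φ.v c) ∨ ∃ l : F, ap g (Φ.v c) = l • Φ.v c.swap := by
      intro c
      set y := ap g (Φ.v c) with hy
      have hQ : y (.inl 0) * y (.inr 0) = 0 := by
        have h0 : (quadPlus _ F) y = 0 := by rw [hy, Q_ap, Φ.sing]
        simpa [coe_quadPlus, quadFormPlus] using h0
      have hdec : y = y (.inl 0) • Φ.v (.inl 0) + y (.inr 0) • Φ.v (.inr 0) := funext fun i => by
        rcases i with i | i <;> simp [Φ, framePlus, Fin.eq_zero i]
      have hcc : ∀ d : Ix 1, d = c ∨ d = c.swap := fun d => by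
        rcases c with c | c <;> rcases d with d | d <;> simp [Fin.eq_zero c, Fin.eq_zero d]
      rcases mul_eq_zero.1 hQ with h | h <;> rw [h, zero_smul] at hdec
      · rw [zero_add] at hdec
        rcases hcc (.inr 0) with e | e <;> rw [e] at hdec
        exacts [.inl ⟨_, hdec⟩, .inr ⟨_, hdec⟩]
      · rw [add_zero] at hdec
        rcases hcc (.inl 0) with e | e <;> rw [e] at hdec
        exacts [.inl ⟨_, hdec⟩, .inr ⟨_, hdec⟩]
    intro c
    rcases hsing c with h | ⟨l, hl⟩
    · exact h
    exfalso
    have hl0 : l ≠ 0 := Φ.sends_ne_zero hl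
    set u := Φ.v c - l • Φ.v c.swap with hu
    have hQu : (quadPlus _ F) u = -l := by
      rw [hu, Q_sub, Q_smul, Φ.sing, Φ.sing, pl_smul_right, Φ.pl, if_pos rfl]; ring
    have hgr : g = refl (quadPlus _ F) u := by
      have hsw : ap g (Φ.v c.swap) = l⁻¹ • Φ.v c := by
        rcases hsing c.swap with ⟨k, hk⟩ | ⟨k, hk⟩
        · exfalso
          have h1 := polar_ap (Q := (quadPlus _ F)) g (Φ.v c) (Φ.v c.swap)
          rw [hl, hk, pl_smul_left, pl_smul_right, Φ.pl_eq_zero (by rw [Sum.swap_swap]; exact swap_ne c),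
            Φ.pl, if_pos rfl] at h1
          simp at h1
        · rw [Sum.swap_swap] at hk
          have h1 := polar_ap (Q := (quadPlus _ F)) g (Φ.v c) (Φ.v c.swap)
          rw [hl, hk, pl_smul_left, pl_smul_right, Φ.pl_swap, Φ.pl, if_pos rfl, mul_one] at h1
          rw [hk, eq_inv_of_mul_eq_one_right h1]
      refine Φ.ext_of (fun d => ?_) fun w hw => by rw [framePlus_off hw, map_zero, map_zero]
      rw [refl_ap, hQu, hu, pl_sub_left, pl_smul_left]
      have hcc : d = c ∨ d = c.swap := by
        rcases c with c | c <;> rcases d with d | d <;> simp [Fin.eq_zero c, Fin.eq_zero d]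
      rcases hcc with rfl | rfl
      · rw [hl, Φ.pl_swap, Φ.pl_eq_zero (swap_ne _).symm]
        match_scalars <;> field_simp <;> ring
      · rw [hsw, Φ.pl, if_pos rfl, Φ.pl_eq_zero (a := c.swap) (by rw [Sum.swap_swap]; exact swap_ne c)]
        match_scalars <;> field_simp <;> ring
    rw [hgr, dick_refl Φ.nd (by rw [hQu]; exact neg_ne_zero.2 hl0)] at hg'
    norm_num at hg'
  · have hor : Fintype.card F ≠ 2 ∨ 3 ≤ m := (not_and_or.1 hne).imp_right fun h' => by omega
    have hG : Good (quadPlus _ F) := Good.of_card (quadPlus_nondeg m) (hor.imp_right fun h => by omega)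
    have hsc : (∃ c : F, c ≠ 0 ∧ c ≠ 1) ∨ 5 ≤ Fintype.card (Fin m ⊕ Fin m) :=
      hor.imp exists_scalar_of_card fun h => by omega
    have heq := omega_eq_eichGen hG (by omega) hsc
    exact hasSt_omega_of_eq heq
      (Φ.hasSt_quot (by omega) (by omega) (.inr h) p (htor_of_good p Φ hline hG heq.ge))

end Cfsg.Agent.OrthBN
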