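import Cfsg.Agent.Lib.OrthTwoGen.Core
import Cfsg.Agent.Lib.Orth.Derange

/-!
# Flags, Borel subgroup and unipotent radical of an orthogonal group

For a frame `Φ : OFrame Q m` of `m` hyperbolic pairs with anisotropic orthogonal:
* `low k`, `pres K`, `bor`, `unip`, `torus`, `mono`;
* `eich_mem_unip`, `eich_pair_mem`, `eich_off_mem` : Eichler transformations in the radical;
* `unip_le_eichGen` : the radical lies in the group generated by Eichler transformations;
* `exists_diag_fix` : `bor = unip * torus`; `unip_pGroup`.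
-/

set_option autoImplicit false
set_option linter.unusedSectionVars false

namespace Cfsg.Agent.OrthBN

open Cfsg Matrix Module Cfsg.Agent.Orth
open QuadraticMap (polar)

/-- Labels of the frame vectors. -/
abbrev Ix (m : ℕ) := Fin m ⊕ Fin m

/-- The position of a label in the flag. -/
def pos {m : ℕ} : Ix m → ℕ := Sum.elim (fun i => i.val) fun i => 2 * m - i.val

theorem pos_injective {m : ℕ} : Function.Injective (pos : Ix m → ℕ) := by
  intro a b h
  rcases a with i | i <;> rcases b with j | j <;>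
    simp only [pos, Sum.elim_inl, Sum.elim_inr] at h <;>
    first
      | exact congrArg _ (Fin.ext (by omega))
      | omega

theorem pos_lt_swap {m : ℕ} {a b : Ix m} (h : pos a < pos b) : pos b.swap < pos a.swap := by
  rcases a with i | i <;> rcases b with j | j <;>
    simp only [pos, Sum.elim_inl, Sum.elim_inr, Sum.swap_inl, Sum.swap_inr] at h ⊢ <;> omega

theorem swap_ne {m : ℕ} (a : Ix m) : a.swap ≠ a := by cases a <;> simp

variable {ι : Type} [Fintype ι] [DecidableEq ι] {F : Type*} [Field F] [Fintype F]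
variable {Q : QuadraticForm F (ι → F)} {m : ℕ}

/-- Hyperbolic pairs with anisotropic orthogonal. -/
structure OFrame (Q : QuadraticForm F (ι → F)) (m : ℕ) where
  v : Ix m → ι → F
  sing : ∀ a, Q (v a) = 0
  pl : ∀ a b, polar ⇑Q (v a) (v b) = if b = a.swap then 1 else 0
  aniso : ∀ x, (∀ a, polar ⇑Q (v a) x = 0) → Q x = 0 → x = 0
  nd : Q.polarBilin.Nondegenerate

namespace OFrame

variable (Φ : OFrame Q m)

/-- The first vector of a pair. -/
abbrev e (i : Fin m) : ι → F := Φ.v (.inl i)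

/-- The second vector of a pair. -/
abbrev f (i : Fin m) : ι → F := Φ.v (.inr i)

/-- Orthogonal to the frame. -/
def Off (x : ι → F) : Prop := ∀ a, polar ⇑Q (Φ.v a) x = 0

theorem hpair (a : Ix m) : HPair Q (Φ.v a) (Φ.v a.swap) :=
  ⟨Φ.sing a, Φ.sing _, by rw [Φ.pl, if_pos rfl]⟩

theorem v_ne_zero (a : Ix m) : Φ.v a ≠ 0 := (Φ.hpair a).ne_zero

theorem pl_eq_zero {a b : Ix m} (h : b ≠ a.swap) : polar ⇑Q (Φ.v a) (Φ.v b) = 0 := by rw [Φ.pl, if_neg h]

theorem pl_swap (a : Ix m) : polar ⇑Q (Φ.v a.swap) (Φ.v a) = 1 := by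
  rw [Φ.pl, if_pos (Sum.swap_swap a).symm]

theorem pl_ef (i : Fin m) : polar ⇑Q (Φ.v (.inl i)) (Φ.v (.inr i)) = 1 := by rw [Φ.pl]; simp

theorem pl_fe (i : Fin m) : polar ⇑Q (Φ.v (.inr i)) (Φ.v (.inl i)) = 1 := by rw [Φ.pl]; simp

theorem pl_sum (c : Ix m → F) (b : Ix m) : polar ⇑Q (Φ.v b) (∑ a, c a • Φ.v a) = c b.swap := by
  rw [show polar ⇑Q (Φ.v b) (∑ a, c a • Φ.v a) = Q.polarBilin (Φ.v b) (∑ a, c a • Φ.v a) from rfl, map_sum]
  simp [Φ.pl]

/-- The component orthogonal to the frame. -/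
def proj : (ι → F) →ₗ[F] (ι → F) :=
  LinearMap.id - ∑ a, (Q.polarBilin (Φ.v a.swap)).smulRight (Φ.v a)

theorem proj_eq (x : ι → F) : Φ.proj x = x - ∑ a, polar ⇑Q (Φ.v a.swap) x • Φ.v a := by
  simp [proj, LinearMap.sum_apply]

theorem decomp (x : ι → F) : x = (∑ a, polar ⇑Q (Φ.v a.swap) x • Φ.v a) + Φ.proj x := by
  rw [proj_eq]; abel

theorem proj_off (x : ι → F) : Φ.Off (Φ.proj x) := fun b => by
  rw [proj_eq, pl_sub_right, pl_sum, Sum.swap_swap, sub_self]

theorem off_pl {x : ι → F} (h : Φ.Off x) (a : Ix m) : polar ⇑Q x (Φ.v a) = 0 := by rw [pl_comm (Q := Q), h a]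

theorem eq_zero_of {x : ι → F} (h : Φ.Off x) (h' : ∀ w, Φ.Off w → polar ⇑Q x w = 0) : x = 0 := by
  by_contra hx
  obtain ⟨y, hy⟩ := exists_polar_ne Φ.nd hx
  refine hy ?_
  rw [Φ.decomp y, pl_add_right, h' _ (Φ.proj_off y), add_zero,
    show polar ⇑Q x (∑ a, polar ⇑Q (Φ.v a.swap) y • Φ.v a) =
      Q.polarBilin x (∑ a, polar ⇑Q (Φ.v a.swap) y • Φ.v a) from rfl, map_sum]
  exact Finset.sum_eq_zero fun a _ => by simp [Φ.off_pl h]

theorem ext_of {g h : IsoGrp Q} (hv : ∀ a, ap g (Φ.v a) = ap h (Φ.v a))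
    (hw : ∀ w, Φ.Off w → ap g w = ap h w) : g = h := by
  refine ext_ap fun x => ?_
  rw [Φ.decomp x]
  simp only [map_add, map_sum, map_smul, hv, hw _ (Φ.proj_off x)]

/-! ### The flag -/

/-- The span of `e i`, `i < k`. -/
def low (k : ℕ) : Submodule F (ι → F) := Submodule.span F (Φ.e '' {i | i.val < k})

theorem e_mem_low {i : Fin m} {k : ℕ} (h : i.val < k) : Φ.e i ∈ Φ.low k :=
  Submodule.subset_span ⟨i, h, rfl⟩

theorem low_mono {k l : ℕ} (h : k ≤ l) : Φ.low k ≤ Φ.low l :=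
  Submodule.span_mono (Set.image_mono fun _ hi => lt_of_lt_of_le (show _ < k from hi) h)

theorem low_le_iff {k : ℕ} {S : Submodule F (ι → F)} : Φ.low k ≤ S ↔ ∀ i : Fin m, i.val < k → Φ.e i ∈ S := by
  rw [low, Submodule.span_le, Set.image_subset_iff]; rfl

theorem low_pl {k : ℕ} {x : ι → F} (hx : x ∈ Φ.low k) {y : ι → F}
    (hy : ∀ i : Fin m, i.val < k → polar ⇑Q y (Φ.e i) = 0) : polar ⇑Q y x = 0 := by
  have : Φ.low k ≤ LinearMap.ker (Q.polarBilin y) := Φ.low_le_iff.2 fun i hi => by simpa using hy i hi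
  simpa using this hx

theorem low_e {k : ℕ} {x : ι → F} (hx : x ∈ Φ.low k) (j : Fin m) : polar ⇑Q (Φ.e j) x = 0 :=
  Φ.low_pl hx fun i _ => Φ.pl_eq_zero (by simp)

theorem low_f {k : ℕ} {x : ι → F} (hx : x ∈ Φ.low k) {j : Fin m} (hj : k ≤ j.val) :
    polar ⇑Q (Φ.f j) x = 0 :=
  Φ.low_pl hx fun i hi => Φ.pl_eq_zero (by simp only [Sum.swap_inr, ne_eq, Sum.inl.injEq]; omega)

theorem low_off {k : ℕ} {x : ι → F} (hx : x ∈ Φ.low k) {w : ι → F} (hw : Φ.Off w) : polar ⇑Q w x = 0 :=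
  Φ.low_pl hx fun _ _ => Φ.off_pl hw _

theorem mem_low {k : ℕ} {x : ι → F} (he : ∀ j, polar ⇑Q (Φ.e j) x = 0)
    (hf : ∀ j : Fin m, k ≤ j.val → polar ⇑Q (Φ.f j) x = 0) (hw : ∀ w, Φ.Off w → polar ⇑Q w x = 0) :
    x ∈ Φ.low k := by
  have hp : Φ.proj x = 0 := Φ.eq_zero_of (Φ.proj_off x) fun w hw' => by
    rw [proj_eq, pl_sub_left, pl_comm (Q := Q) x w, hw w hw', zero_sub, neg_eq_zero, pl_comm (Q := Q),
      show polar ⇑Q w (∑ a, polar ⇑Q (Φ.v a.swap) x • Φ.v a) =
        Q.polarBilin w (∑ a, polar ⇑Q (Φ.v a.swap) x • Φ.v a) from rfl, map_sum]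
    exact Finset.sum_eq_zero fun a _ => by simp [Φ.off_pl hw']
  rw [Φ.decomp x, hp, add_zero]
  refine Submodule.sum_mem _ fun a _ => ?_
  rcases a with i | i
  · by_cases hi : i.val < k
    · exact Submodule.smul_mem _ _ (Φ.e_mem_low hi)
    · rw [Sum.swap_inl, hf i (not_lt.1 hi), zero_smul]; exact zero_mem _
  · rw [Sum.swap_inr, he i, zero_smul]; exact zero_mem _

theorem v_mem_low_iff {a : Ix m} {k : ℕ} (hk : k ≤ m) : Φ.v a ∈ Φ.low k ↔ pos a < k := by
  rcases a with i | i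
  · refine ⟨fun h => ?_, fun h => Φ.e_mem_low h⟩
    by_contra hlt
    have := Φ.low_f h (j := i) (by simpa [pos] using hlt)
    rw [Φ.pl_fe] at this
    exact one_ne_zero this
  · refine ⟨fun h => ?_, fun h => ?_⟩
    · have := Φ.low_e h i
      rw [Φ.pl_ef] at this
      exact absurd this one_ne_zero
    · simp only [pos, Sum.elim_inr] at h; omega

/-! ### The subgroups -/

/-- The elements preserving the flag members with index in `K`. -/
def pres (K : Set ℕ) : Subgroup (IsoGrp Q) where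
  carrier := {g | ∀ k ∈ K, ∀ x ∈ Φ.low k, ap g x ∈ Φ.low k}
  one_mem' k _ x hx := by rwa [ap_one]
  mul_mem' {g h} hg hh k hk x hx := by rw [ap_mul]; exact hg k hk _ (hh k hk x hx)
  inv_mem' {g} hg k hk x hx := by
    let f : Φ.low k → Φ.low k := fun y => ⟨ap g y, hg k hk y y.2⟩
    have hinj : Function.Injective f := fun y z h => Subtype.ext (ap_inj g (congrArg Subtype.val h))
    obtain ⟨y, hy⟩ := (Finite.injective_iff_surjective.1 hinj) ⟨x, hx⟩
    rw [show x = ap g y from (congrArg Subtype.val hy).symm, ap_inv_ap]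
    exact y.2

theorem mem_pres_of_e {K : Set ℕ} {g : IsoGrp Q}
    (h : ∀ k ∈ K, ∀ i : Fin m, i.val < k → ap g (Φ.e i) ∈ Φ.low k) : g ∈ Φ.pres K :=
  fun k hk x hx => (Φ.low_le_iff (S := (Φ.low k).comap (ap g))).2 (h k hk) hx

/-- The stabiliser of the flag. -/
def bor : Subgroup (IsoGrp Q) := Φ.pres Set.univ

theorem mem_bor_iff {g : IsoGrp Q} : g ∈ Φ.bor ↔ ∀ i : Fin m, ap g (Φ.e i) ∈ Φ.low (i.val + 1) :=
  ⟨fun h i => h _ trivial _ (Φ.e_mem_low (Nat.lt_succ_self _)),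
    fun h => Φ.mem_pres_of_e fun _ _ i hi => Φ.low_mono hi (h i)⟩

theorem bor_low {g : IsoGrp Q} (hg : g ∈ Φ.bor) {k : ℕ} {x : ι → F} (hx : x ∈ Φ.low k) : ap g x ∈ Φ.low k :=
  hg k trivial x hx

theorem bor_low_orth {g : IsoGrp Q} (hg : g ∈ Φ.bor) {k : ℕ} {y : ι → F}
    (hy : ∀ i : Fin m, i.val < k → polar ⇑Q (Φ.e i) y = 0) {i : Fin m} (hi : i.val < k) :
    polar ⇑Q (Φ.e i) (ap g y) = 0 := by
  rw [← ap_ap_inv g (Φ.e i), polar_ap, pl_comm (Q := Q)]
  exact Φ.low_pl (Φ.bor_low (inv_mem hg) (Φ.e_mem_low hi)) fun j hj => by rw [pl_comm (Q := Q), hy j hj]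

/-- The unipotent radical. -/
def unip : Subgroup (IsoGrp Q) where
  carrier := {g | g ∈ Φ.bor ∧ (∀ i : Fin m, ap g (Φ.e i) - Φ.e i ∈ Φ.low i.val) ∧
    ∀ w, Φ.Off w → ap g w - w ∈ Φ.low m}
  one_mem' := ⟨one_mem _, fun i => by simp, fun w _ => by simp⟩
  mul_mem' {g h} hg hh := by
    have key : ∀ (x : ι → F) (k : ℕ), ap g x - x ∈ Φ.low k → ap h x - x ∈ Φ.low k →
        ap (g * h) x - x ∈ Φ.low k := fun x k h1 h2 => by
      rw [ap_mul, show ap g (ap h x) - x = ap g (ap h x - x) + (ap g x - x) by rw [map_sub]; abel]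
      exact add_mem (Φ.bor_low hg.1 h2) h1
    exact ⟨mul_mem hg.1 hh.1, fun i => key _ _ (hg.2.1 i) (hh.2.1 i), fun w hw => key _ _ (hg.2.2 w hw) (hh.2.2 w hw)⟩
  inv_mem' {g} hg := by
    have key : ∀ (x : ι → F) (k : ℕ), ap g x - x ∈ Φ.low k → ap g⁻¹ x - x ∈ Φ.low k := fun x k h1 => by
      rw [show ap g⁻¹ x - x = -ap g⁻¹ (ap g x - x) by rw [map_sub, ap_inv_ap]; abel]
      exact neg_mem (Φ.bor_low (inv_mem hg.1) h1)
    exact ⟨inv_mem hg.1, fun i => key _ _ (hg.2.1 i), fun w hw => key _ _ (hg.2.2 w hw)⟩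

theorem unip_le_bor : Φ.unip ≤ Φ.bor := fun _ h => h.1

theorem mem_unip_iff {g : IsoGrp Q} : g ∈ Φ.unip ↔
    (∀ i : Fin m, ap g (Φ.e i) - Φ.e i ∈ Φ.low i.val) ∧ ∀ w, Φ.Off w → ap g w - w ∈ Φ.low m := by
  refine ⟨fun h => h.2, fun h => ⟨Φ.mem_bor_iff.2 fun i => ?_, h⟩⟩
  have := add_mem (Φ.low_mono (Nat.le_succ _) (h.1 i)) (Φ.e_mem_low (Nat.lt_succ_self i.val))
  rwa [sub_add_cancel] at this

/-- `g` carries the line of the label `a` to that of `b`. -/
def Sends (g : IsoGrp Q) (a b : Ix m) : Prop := ∃ l : F, ap g (Φ.v a) = l • Φ.v b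

theorem sends_one (a : Ix m) : Φ.Sends 1 a a := ⟨1, by simp⟩

theorem sends_trans {g h : IsoGrp Q} {a b c : Ix m} (h1 : Φ.Sends h a b) (h2 : Φ.Sends g b c) :
    Φ.Sends (g * h) a c := by
  obtain ⟨l, hl⟩ := h1
  obtain ⟨k, hk⟩ := h2
  exact ⟨l * k, by rw [ap_mul, hl, map_smul, hk, smul_smul]⟩

theorem sends_ne_zero {g : IsoGrp Q} {a b : Ix m} {l : F} (h : ap g (Φ.v a) = l • Φ.v b) : l ≠ 0 := by
  rintro rfl
  rw [zero_smul, ← map_zero (ap g)] at h
  exact Φ.v_ne_zero a (ap_inj g h)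

theorem sends_symm {g : IsoGrp Q} {a b : Ix m} (h : Φ.Sends g a b) : Φ.Sends g⁻¹ b a := by
  obtain ⟨l, hl⟩ := h
  refine ⟨l⁻¹, ?_⟩
  rw [← ap_inv_ap g (Φ.v a), hl, map_smul, smul_smul, inv_mul_cancel₀ (Φ.sends_ne_zero hl), one_smul]

theorem sends_unique {g : IsoGrp Q} {a b b' : Ix m} (h : Φ.Sends g a b) (h' : Φ.Sends g a b') : b = b' := by
  obtain ⟨l, hl⟩ := h
  obtain ⟨k, hk⟩ := h'
  by_contra hne
  have e := congrArg (polar ⇑Q (Φ.v b.swap)) (hl.symm.trans hk)
  rw [pl_smul_right, pl_smul_right, Φ.pl_swap, Φ.pl_eq_zero (by rw [Sum.swap_swap]; exact Ne.symm hne),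
    mul_one, mul_zero] at e
  exact Φ.sends_ne_zero hl e

theorem sends_inj {g : IsoGrp Q} {a a' b : Ix m} (h : Φ.Sends g a b) (h' : Φ.Sends g a' b) : a = a' :=
  Φ.sends_unique (Φ.sends_symm h) (Φ.sends_symm h')

theorem sends_swap {g : IsoGrp Q} (hg : ∀ c, ∃ d, Φ.Sends g c d) {a b : Ix m} (h : Φ.Sends g a b) :
    Φ.Sends g a.swap b.swap := by
  obtain ⟨d, hd⟩ := hg a.swap
  obtain ⟨l, hl⟩ := h
  obtain ⟨k, hk⟩ := hd
  suffices d = b.swap by exact this ▸ ⟨k, hk⟩
  by_contra hne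
  have e := polar_ap (Q := Q) g (Φ.v a) (Φ.v a.swap)
  rw [hl, hk, pl_smul_left, pl_smul_right, Φ.pl_eq_zero hne, Φ.pl, if_pos rfl] at e
  simp at e

/-- The monomial elements. -/
def mono : Subgroup (IsoGrp Q) where
  carrier := {g | ∀ a, ∃ b, Φ.Sends g a b}
  one_mem' a := ⟨a, Φ.sends_one a⟩
  mul_mem' {g h} hg hh a := by
    obtain ⟨b, hb⟩ := hh a
    obtain ⟨c, hc⟩ := hg b
    exact ⟨c, Φ.sends_trans hb hc⟩
  inv_mem' {g} hg a := by
    choose π hπ using hg
    obtain ⟨b, rfl⟩ := (Finite.injective_iff_surjective.1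
      (show Function.Injective π from fun x y e => Φ.sends_inj (hπ x) (e.symm ▸ hπ y))) a
    exact ⟨b, Φ.sends_symm (hπ b)⟩

theorem mono_off {g : IsoGrp Q} (hg : g ∈ Φ.mono) {w : ι → F} (hw : Φ.Off w) : Φ.Off (ap g w) := fun a => by
  obtain ⟨b, l, hl⟩ := Φ.mono.inv_mem hg a
  rw [← ap_ap_inv g (Φ.v a), polar_ap, hl, pl_smul_left, hw b, mul_zero]

/-- The elements fixing each line of the frame. -/
def torus : Subgroup (IsoGrp Q) where
  carrier := {g | ∀ a, Φ.Sends g a a}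
  one_mem' := Φ.sends_one
  mul_mem' hg hh a := Φ.sends_trans (hh a) (hg a)
  inv_mem' hg a := Φ.sends_symm (hg a)

theorem torus_le_mono : Φ.torus ≤ Φ.mono := fun _ hg a => ⟨a, hg a⟩

theorem torus_normalized {g t : IsoGrp Q} (hg : g ∈ Φ.mono) (ht : t ∈ Φ.torus) : g * t * g⁻¹ ∈ Φ.torus :=
  fun a => by
    obtain ⟨b, hb⟩ := Φ.mono.inv_mem hg a
    have hb' : Φ.Sends g b a := by simpa using Φ.sends_symm hb
    exact Φ.sends_trans hb (Φ.sends_trans (ht b) hb')

theorem torus_le_bor : Φ.torus ≤ Φ.bor := fun g hg => Φ.mem_bor_iff.2 fun i => by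
  obtain ⟨l, hl⟩ := hg (.inl i)
  rw [hl]
  exact Submodule.smul_mem _ _ (Φ.e_mem_low (Nat.lt_succ_self _))

theorem mono_inf_bor {g : IsoGrp Q} (hg : g ∈ Φ.mono) (hgB : g ∈ Φ.bor) : g ∈ Φ.torus := by
  have key : ∀ k, ∀ i : Fin m, i.val = k → Φ.Sends g (.inl i) (.inl i) := by
    intro k
    induction k using Nat.strong_induction_on with
    | _ k ih =>
      intro i hi
      obtain ⟨b, l, hl⟩ := hg (.inl i)
      have hmem : Φ.v b ∈ Φ.low (i.val + 1) := by
        have h2 := Submodule.smul_mem _ l⁻¹ (hl ▸ Φ.mem_bor_iff.1 hgB i : l • Φ.v b ∈ Φ.low (i.val + 1))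
        rwa [smul_smul, inv_mul_cancel₀ (Φ.sends_ne_zero hl), one_smul] at h2
      rw [Φ.v_mem_low_iff i.isLt] at hmem
      rcases b with j | j
      · simp only [pos, Sum.elim_inl] at hmem
        rcases Nat.lt_succ_iff_lt_or_eq.1 hmem with h | h
        · have := Φ.sends_inj ⟨l, hl⟩ (ih j.val (hi ▸ h) j rfl)
          simp only [Sum.inl.injEq] at this
          omega
        · rw [Fin.ext h] at hl; exact ⟨l, hl⟩
      · simp only [pos, Sum.elim_inr] at hmem; omega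
  rintro (i | i)
  · exact key _ i rfl
  · simpa using Φ.sends_swap hg (key _ i rfl)

/-- The unipotent radical is normalised by the flag stabiliser. -/
theorem unip_conj {b u : IsoGrp Q} (hb : b ∈ Φ.bor) (hu : u ∈ Φ.unip) : b * u * b⁻¹ ∈ Φ.unip := by
  have hid : ∀ x, ap (b * u * b⁻¹) x - x = ap b (ap u (ap b⁻¹ x) - ap b⁻¹ x) := fun x => by
    rw [map_sub, ap_mul, ap_mul, ap_ap_inv]
  have hlow : ∀ (k : ℕ), ∀ x ∈ Φ.low (k + 1), ap u x - x ∈ Φ.low k := by
    intro k x hx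
    refine (Φ.low_le_iff (S := (Φ.low k).comap (ap u - LinearMap.id))).2 (fun i hi => ?_) hx
    exact Φ.low_mono (by omega) (hu.2.1 i)
  refine Φ.mem_unip_iff.2 ⟨fun i => ?_, fun w hw => ?_⟩
  · rw [hid]
    exact Φ.bor_low hb (hlow _ _ (Φ.bor_low (inv_mem hb) (Φ.e_mem_low (Nat.lt_succ_self _))))
  · rw [hid]
    refine Φ.bor_low hb ?_
    set x := ap b⁻¹ w with hx
    have hxe : ∀ i : Fin m, polar ⇑Q (Φ.e i) x = 0 := fun i =>
      Φ.bor_low_orth (inv_mem hb) (k := m) (fun j _ => hw _) i.isLt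
    rw [Φ.decomp x, map_add, map_sum, add_sub_add_comm, ← Finset.sum_sub_distrib]
    refine add_mem (Submodule.sum_mem _ fun a _ => ?_) (hu.2.2 _ (Φ.proj_off x))
    rcases a with i | i
    · rw [map_smul, ← smul_sub]
      exact Submodule.smul_mem _ _ (Φ.low_mono i.isLt.le (hu.2.1 i))
    · rw [Sum.swap_inr, hxe i, zero_smul, map_zero, sub_zero]; exact zero_mem _

/-! ### Eichler transformations in the radical -/

theorem eich_mem_unip {a : Fin m} (l : F) {y : ι → F}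
    (hy : ∀ i : Fin m, i.val ≤ a.val → polar ⇑Q (Φ.e i) y = 0) : eich Q (l • Φ.e a) y ∈ Φ.unip := by
  rw [eich_smul_left]
  have hy' : ∀ i : Fin m, i.val ≤ a.val → polar ⇑Q (Φ.e i) (l • y) = 0 := fun i hi => by
    rw [pl_smul_right, hy i hi, mul_zero]
  refine Φ.mem_unip_iff.2 ⟨fun i => ?_, fun w hw => ?_⟩
  · rw [eich_ap (Φ.sing _) (hy' a le_rfl), Φ.pl_eq_zero (by simp), zero_smul, add_zero, mul_zero, add_zero,
      sub_sub_cancel_left]
    refine neg_mem ?_
    by_cases hi : i.val ≤ a.val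
    · rw [pl_comm (Q := Q), hy' i hi, zero_smul]; exact zero_mem _
    · exact Submodule.smul_mem _ _ (Φ.e_mem_low (by omega))
  · rw [eich_ap (Φ.sing _) (hy' a le_rfl), hw, zero_smul, add_zero, mul_zero, add_zero, sub_sub_cancel_left]
    exact neg_mem (Submodule.smul_mem _ _ (Φ.e_mem_low a.isLt))

/-- A root element of the frame. -/
theorem eich_pair_mem {A C : Ix m} (h : pos A < pos C) (l t : F) :
    eich Q (l • Φ.v A) (t • Φ.v C.swap) ∈ Φ.unip := by
  have main : ∀ (a : Fin m) (C : Ix m) (l t : F), a.val < pos C →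
      eich Q (l • Φ.e a) (t • Φ.v C.swap) ∈ Φ.unip := by
    intro a C l t h
    refine Φ.eich_mem_unip l fun i hi => ?_
    rw [pl_smul_right, Φ.pl_eq_zero, mul_zero]
    intro e
    have hC : C = .inl i := by
      rw [← Sum.swap_swap C, e, Sum.swap_swap]
    rw [hC] at h
    simp only [pos, Sum.elim_inl] at h
    omega
  rcases A with a | a
  · exact main a C l t (by simpa [pos] using h)
  · rcases C with c | c
    · simp only [pos, Sum.elim_inl, Sum.elim_inr] at h; omega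
    · rw [Sum.swap_inr,
        OrthTwoGen.eich_swap (u := t • Φ.e c) (w := l • Φ.f a) (by rw [Q_smul, Φ.sing, mul_zero])
          (by rw [Q_smul, Φ.sing, mul_zero]) ?_, ← neg_smul]
      · have := pos_lt_swap h
        simp only [Sum.swap_inr] at this
        have h' := main c (.inl a) t (-l) (by simpa [pos] using this)
        simpa using h'
      · rw [pl_smul_left, pl_smul_right, Φ.pl_eq_zero, mul_zero, mul_zero]
        simp only [Sum.swap_inl, ne_eq, Sum.inr.injEq]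
        rintro rfl
        exact lt_irrefl _ h

theorem eich_off_mem (a : Fin m) (l : F) {w : ι → F} (hw : Φ.Off w) : eich Q (l • Φ.e a) w ∈ Φ.unip :=
  Φ.eich_mem_unip l fun i _ => hw _

theorem unip_le_eichGen : Φ.unip ≤ eichGen Q := by
  suffices key : ∀ d k, d + k = m → ∀ u ∈ Φ.unip,
      (∀ i : Fin m, i.val < k → ap u (Φ.e i) = Φ.e i ∧ ap u (Φ.f i) = Φ.f i) → u ∈ eichGen Q from
    fun u hu => key m 0 (by omega) u hu fun i hi => absurd hi (Nat.not_lt_zero _)
  intro d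
  induction d with
  | zero =>
    intro k hk u hu hfix
    suffices u = 1 by rw [this]; exact one_mem _
    refine Φ.ext_of (fun a => ?_) (fun w hw => ?_)
    · rw [ap_one]
      rcases a with i | i
      · exact (hfix i (by omega)).1
      · exact (hfix i (by omega)).2
    · rw [ap_one]
      have h1 := hu.2.2 w hw
      refine sub_eq_zero.1 ?_
      have h2 : ∀ i : Fin m, polar ⇑Q (Φ.f i) (ap u w - w) = 0 := fun i => by
        rw [pl_sub_right, hw, sub_zero, ← (hfix i (by omega)).2, polar_ap, hw]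
      have h3 : ap u w - w ∈ Φ.low 0 :=
        Φ.mem_low (Φ.low_e h1) (fun j _ => h2 j) (fun w' hw' => Φ.low_off h1 hw')
      simpa [low] using h3
  | succ d ih =>
    intro k hk u hu hfix
    set a : Fin m := ⟨k, by omega⟩ with ha
    have hea : ap u (Φ.e a) = Φ.e a := by
      have h1 := hu.2.1 a
      refine sub_eq_zero.1 ?_
      have h3 : ap u (Φ.e a) - Φ.e a ∈ Φ.low 0 := by
        refine Φ.mem_low (Φ.low_e h1) (fun j _ => ?_) fun w hw => Φ.low_off h1 hw
        by_cases hj : j.val < k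
        · rw [pl_sub_right, ← (hfix j hj).2, polar_ap, (hfix j hj).2, sub_self]
        · exact Φ.low_f h1 (not_lt.1 hj)
      simpa [low] using h3
    set y := ap u (Φ.f a) with hy
    set w := y - Φ.f a - polar ⇑Q (Φ.f a) y • Φ.e a with hw
    have hey : polar ⇑Q (Φ.e a) y = 1 := by rw [← hea, hy, polar_ap, Φ.pl_ef]
    have hff : polar ⇑Q (Φ.f a) (Φ.f a) = 0 := Φ.pl_eq_zero (by simp)
    have hwe : polar ⇑Q (Φ.e a) w = 0 := by
      rw [hw, pl_sub_right, pl_sub_right, pl_smul_right, hey, Φ.pl_ef, Φ.pl_eq_zero (by simp)]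
      ring
    have hwf : polar ⇑Q w (Φ.f a) = 0 := by
      rw [pl_comm (Q := Q), hw, pl_sub_right, pl_sub_right, pl_smul_right, hff, Φ.pl_fe]
      ring
    have hlow : ∀ i : Fin m, i.val < k → polar ⇑Q (Φ.e i) w = 0 ∧ polar ⇑Q (Φ.f i) w = 0 := by
      intro i hi
      have hne : i ≠ a := fun e => by subst e; simp [ha] at hi
      constructor
      · rw [hw, pl_sub_right, pl_sub_right, pl_smul_right, Φ.pl_eq_zero (b := .inl a) (by simp), mul_zero,
          ← (hfix i hi).1, hy, polar_ap, (hfix i hi).1, Φ.pl_eq_zero (b := .inr a) (by simpa using hne.symm)]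
        ring
      · rw [hw, pl_sub_right, pl_sub_right, pl_smul_right, Φ.pl_eq_zero (b := .inl a) (by simpa using hne.symm),
          mul_zero, ← (hfix i hi).2, hy, polar_ap, (hfix i hi).2, Φ.pl_eq_zero (b := .inr a) (by simp)]
        ring
    have hy' : y = Φ.f a + w + polar ⇑Q (Φ.f a) y • Φ.e a := by rw [hw]; abel
    have hQw : Q w = -polar ⇑Q (Φ.f a) y := by
      have h0 : Q y = 0 := by rw [hy, Q_ap, Φ.sing]
      have hfw : polar ⇑Q (Φ.f a) w = 0 := by rw [pl_comm (Q := Q), hwf]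
      rw [hy', Q_add, Q_add, Q_smul, Φ.sing, Φ.sing, pl_add_left, pl_smul_right, pl_smul_right, hfw,
        pl_comm (Q := Q) w (Φ.e a), hwe, Φ.pl_fe] at h0
      linear_combination h0
    set g := eich Q (Φ.e a) w with hg
    have hgU : g ∈ Φ.unip := by
      have := Φ.eich_mem_unip (a := a) 1 (y := w) fun i hi => by
        rcases lt_or_eq_of_le hi with h | h
        · exact (hlow i h).1
        · rw [Fin.ext h]; exact hwe
      rwa [one_smul] at this
    have hgf : ap g (Φ.f a) = y := by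
      rw [hg, eich_ap (Φ.sing _) hwe, hwf, Φ.pl_ef, one_smul, hQw]
      conv_rhs => rw [hy']
      module
    have hge : ap g (Φ.e a) = Φ.e a := by
      rw [hg, eich_ap (Φ.sing _) hwe, pl_comm (Q := Q) w, hwe, Φ.pl_eq_zero (by simp)]
      simp
    have hgfix : ∀ i : Fin m, i.val < k → ap g (Φ.e i) = Φ.e i ∧ ap g (Φ.f i) = Φ.f i := by
      intro i hi
      have hne : i ≠ a := fun e => by subst e; simp [ha] at hi
      constructor
      · rw [hg, eich_ap (Φ.sing _) hwe, pl_comm (Q := Q) w, (hlow i hi).1, Φ.pl_eq_zero (by simp)]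
        simp
      · rw [hg, eich_ap (Φ.sing _) hwe, pl_comm (Q := Q) w, (hlow i hi).2, Φ.pl_eq_zero (by simpa using hne)]
        simp
    have hmem : g⁻¹ * u ∈ eichGen Q := by
      refine ih (k + 1) (by omega) _ (mul_mem (inv_mem hgU) hu) fun i hi => ?_
      rw [ap_mul, ap_mul]
      rcases Nat.lt_succ_iff_lt_or_eq.1 hi with h | h
      · rw [(hfix i h).1, (hfix i h).2]
        exact ⟨by rw [← (hgfix i h).1, ap_inv_ap, (hgfix i h).1], by rw [← (hgfix i h).2, ap_inv_ap, (hgfix i h).2]⟩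
      · obtain rfl : i = a := Fin.ext h
        rw [hea, ← hy, ← hgf, ap_inv_ap]
        exact ⟨by rw [← hge, ap_inv_ap, hge], rfl⟩
    have := mul_mem (eich_mem_eichGen (Q := Q) (Φ.e a) w) hmem
    rwa [← hg, mul_inv_cancel_left] at this

/-! ### The torus -/

/-- A torus element completing an element of the flag stabiliser to a unipotent one. -/
theorem exists_diag_fix {b : IsoGrp Q} (hb : b ∈ Φ.bor) : ∃ t ∈ Φ.torus, b * t ∈ Φ.unip := by
  classical
  set lam : Fin m → F := fun i => polar ⇑Q (Φ.f i) (ap b⁻¹ (Φ.e i)) with hlam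
  have hb' := inv_mem hb
  have hlead : ∀ i, ap b⁻¹ (Φ.e i) - lam i • Φ.e i ∈ Φ.low i.val := by
    intro i
    have h1 := Φ.bor_low hb' (Φ.e_mem_low (Nat.lt_succ_self i.val))
    have h2 := sub_mem h1 (Submodule.smul_mem _ (lam i) (Φ.e_mem_low (Nat.lt_succ_self i.val)))
    refine Φ.mem_low (Φ.low_e h2) (fun j hj => ?_) fun w hw => Φ.low_off h2 hw
    rcases eq_or_lt_of_le hj with h | h
    · obtain rfl : i = j := Fin.ext h
      rw [pl_sub_right, pl_smul_right, Φ.pl_fe, mul_one, hlam, sub_self]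
    · exact Φ.low_f h2 (by omega)
  have hlam0 : ∀ i, lam i ≠ 0 := fun i h0 => by
    have h1 := Φ.bor_low hb (hlead i)
    rw [h0, zero_smul, sub_zero, ap_ap_inv] at h1
    have := (Φ.v_mem_low_iff (a := .inl i) i.isLt.le).1 h1
    simp [pos] at this
  let mu : Ix m → F := Sum.elim lam fun i => (lam i)⁻¹
  let T : (ι → F) →ₗ[F] (ι → F) :=
    (∑ a, (mu a • Q.polarBilin (Φ.v a.swap)).smulRight (Φ.v a)) + Φ.proj ∘ₗ ap b⁻¹ ∘ₗ Φ.proj
  have hT : ∀ x, T x = (∑ a, (mu a * polar ⇑Q (Φ.v a.swap) x) • Φ.v a) + Φ.proj (ap b⁻¹ (Φ.proj x)) :=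
    fun x => by simp [T, LinearMap.sum_apply]
  have hQS : ∀ (c : Ix m → F) (w : ι → F), Φ.Off w →
      Q ((∑ a, c a • Φ.v a) + w) = (∑ i, c (.inl i) * c (.inr i)) + Q w := by
    intro c w hw
    have hQs : Q (∑ a, c a • Φ.v a) = ∑ i, c (.inl i) * c (.inr i) := by
      have h1 : ∀ (d : Fin m → F) (lab : Fin m → Ix m), (∀ i j, lab j ≠ (lab i).swap) →
          ∀ s : Finset (Fin m), Q (∑ i ∈ s, d i • Φ.v (lab i)) = 0 := by
        intro d lab hlab s
        induction s using Finset.induction_on with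
        | empty => simp
        | insert i s hi ih =>
          rw [Finset.sum_insert hi, Q_add, ih, Q_smul, Φ.sing, pl_smul_left,
            show polar ⇑Q (Φ.v (lab i)) (∑ j ∈ s, d j • Φ.v (lab j)) =
              Q.polarBilin (Φ.v (lab i)) (∑ j ∈ s, d j • Φ.v (lab j)) from rfl, map_sum]
          simp [Φ.pl_eq_zero (hlab i _)]
      rw [Fintype.sum_sum_type, Q_add,
        h1 (fun i => c (.inl i)) Sum.inl (fun _ _ => by simp) Finset.univ,
        h1 (fun i => c (.inr i)) Sum.inr (fun _ _ => by simp) Finset.univ,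
        show polar ⇑Q (∑ i, c (.inl i) • Φ.e i) (∑ i, c (.inr i) • Φ.f i) =
          Q.polarBilin (∑ i, c (.inl i) • Φ.e i) (∑ i, c (.inr i) • Φ.f i) from rfl]
      simp [map_sum, LinearMap.sum_apply, Φ.pl, mul_comm]
    rw [Q_add, hQs, show polar ⇑Q (∑ a, c a • Φ.v a) w = Q.polarBilin (∑ a, c a • Φ.v a) w from rfl]
    simp [map_sum, LinearMap.sum_apply, hw _]
  have hproj : ∀ x, Φ.Off x → Q (Φ.proj (ap b⁻¹ x)) = Q x := by
    intro x hx
    have hex : ∀ i : Fin m, polar ⇑Q (Φ.e i) (ap b⁻¹ x) = 0 := fun i =>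
      Φ.bor_low_orth hb' (k := m) (fun j _ => hx _) i.isLt
    conv_rhs => rw [← Q_ap b⁻¹ x, Φ.decomp (ap b⁻¹ x), hQS _ _ (Φ.proj_off _)]
    simp [hex]
  have hiso : ∀ x, Q (T x) = Q x := by
    intro x
    conv_rhs => rw [Φ.decomp x, hQS _ _ (Φ.proj_off _)]
    rw [hT, hQS _ _ (Φ.proj_off _), hproj _ (Φ.proj_off x)]
    congr 1
    refine Finset.sum_congr rfl fun i _ => ?_
    simp only [mu, Sum.elim_inl, Sum.elim_inr]
    field_simp [hlam0 i]
  obtain ⟨t, ht⟩ := exists_isoGrp_of_preserve Φ.nd T hiso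
  have htv : ∀ a, ap t (Φ.v a) = mu a • Φ.v a := by
    intro a
    have hp : Φ.proj (Φ.v a) = 0 := by
      rw [proj_eq, Finset.sum_eq_single a, Φ.pl_swap, one_smul, sub_self]
      · intro c _ hc
        rw [Φ.pl_eq_zero (by rw [Sum.swap_swap]; exact Ne.symm hc), zero_smul]
      · simp
    rw [ht, hT, hp, map_zero, map_zero, add_zero, Finset.sum_eq_single a, Φ.pl_swap, mul_one]
    · intro c _ hc
      rw [Φ.pl_eq_zero (by rw [Sum.swap_swap]; exact Ne.symm hc), mul_zero, zero_smul]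
    · simp
  refine ⟨t, fun a => ⟨_, htv a⟩, Φ.mem_unip_iff.2 ⟨fun i => ?_, fun w hw => ?_⟩⟩
  · rw [ap_mul, htv, map_smul]
    simp only [mu, Sum.elim_inl]
    have h1 := Φ.bor_low hb (neg_mem (hlead i))
    rwa [map_neg, map_sub, ap_ap_inv, neg_sub, map_smul] at h1
  · have hpw : Φ.proj w = w := by
      rw [proj_eq, Finset.sum_eq_zero fun a _ => by rw [hw, zero_smul], sub_zero]
    have htw : ap t w = Φ.proj (ap b⁻¹ w) := by
      rw [ht, hT, hpw, Finset.sum_eq_zero fun a _ => by rw [hw, mul_zero, zero_smul], zero_add]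
    have hex : ∀ i : Fin m, polar ⇑Q (Φ.e i) (ap b⁻¹ w) = 0 := fun i =>
      Φ.bor_low_orth hb' (k := m) (fun j _ => hw _) i.isLt
    rw [ap_mul, htw, proj_eq, map_sub, ap_ap_inv, sub_sub_cancel_left]
    refine neg_mem (Φ.bor_low hb (Submodule.sum_mem _ fun a _ => ?_))
    rcases a with i | i
    · exact Submodule.smul_mem _ _ (Φ.e_mem_low i.isLt)
    · rw [Sum.swap_inr, hex i, zero_smul]; exact zero_mem _

/-! ### The radical is a `p`-group -/

/-- The span of the members up to a position. -/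
def filt (k : ℕ) : Submodule F (ι → F) :=
  Submodule.span F ({x | ∃ a, pos a < k ∧ x = Φ.v a} ∪ {x | m < k ∧ Φ.Off x})

theorem low_le_filt {l k : ℕ} (h : l ≤ k) : Φ.low l ≤ Φ.filt k :=
  Φ.low_le_iff.2 fun i hi => Submodule.subset_span (.inl ⟨.inl i, by simp [pos]; omega, rfl⟩)

theorem filt_top (x : ι → F) : x ∈ Φ.filt (2 * m + 1) := by
  rw [Φ.decomp x]
  refine add_mem (Submodule.sum_mem _ fun a _ => Submodule.smul_mem _ _
    (Submodule.subset_span (.inl ⟨a, ?_, rfl⟩))) (Submodule.subset_span (.inr ⟨by omega, Φ.proj_off x⟩))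
  rcases a with i | i <;> simp [pos] <;> omega

theorem unip_shift {u : IsoGrp Q} (hu : u ∈ Φ.unip) (k : ℕ) :
    Φ.filt (k + 1) ≤ (Φ.filt k).comap (ap u - LinearMap.id) := by
  refine Submodule.span_le.2 ?_
  rintro x (⟨a, ha, rfl⟩ | ⟨hk, hx⟩)
  · show ap u (Φ.v a) - Φ.v a ∈ Φ.filt k
    rcases a with i | i
    · exact Φ.low_le_filt (by simpa [pos] using Nat.lt_succ_iff.1 ha) (hu.2.1 i)
    · simp only [pos, Sum.elim_inr] at ha
      set y := ap u (Φ.f i) - Φ.f i with hy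
      have hye : ∀ j : Fin m, j.val ≤ i.val → polar ⇑Q (Φ.e j) y = 0 := by
        intro j hj
        have h1 := hu.2.1 j
        have h2 := polar_ap (Q := Q) u (Φ.e j) (Φ.f i)
        have h3 : polar ⇑Q (ap u (Φ.e j) - Φ.e j) (ap u (Φ.f i)) = 0 := by
          rw [pl_comm (Q := Q)]
          refine Φ.low_pl h1 fun l hl => ?_
          have := Φ.bor_low_orth hu.1 (k := j.val) (y := Φ.f i)
            (fun l hl => Φ.pl_eq_zero (by simp only [Sum.swap_inl, ne_eq, Sum.inr.injEq]; omega)) hl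
          rwa [pl_comm (Q := Q)]
        rw [pl_sub_left, h2] at h3
        rw [hy, pl_sub_right, ← sub_eq_zero.1 h3, sub_self]
      rw [Φ.decomp y]
      refine add_mem (Submodule.sum_mem _ fun a _ => ?_)
        (Submodule.subset_span (.inr ⟨by omega, Φ.proj_off y⟩))
      rcases a with j | j
      · exact Submodule.smul_mem _ _ (Submodule.subset_span (.inl ⟨.inl j, by simp [pos]; omega, rfl⟩))
      · by_cases hj : j.val ≤ i.val
        · rw [Sum.swap_inr, hye j hj, zero_smul]; exact zero_mem _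
        · exact Submodule.smul_mem _ _ (Submodule.subset_span (.inl ⟨.inr j, by simp [pos]; omega, rfl⟩))
  · exact Φ.low_le_filt (by omega) (hu.2.2 x hx)

theorem unip_pGroup (p : ℕ) [Fact p.Prime] [CharP F p] {G : Subgroup (IsoGrp Q)} :
    IsPGroup p (Φ.unip.subgroupOf G) := by
  classical
  rintro ⟨⟨u, huG⟩, hu⟩
  set M : Matrix ι ι F := ((u : GL ι F) : Matrix ι ι F) - 1 with hM
  have happ : ∀ x, M *ᵥ x = ap u x - x := fun x => by rw [hM, Matrix.sub_mulVec, Matrix.one_mulVec]; rfl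
  have hpow : ∀ (d k : ℕ), ∀ x ∈ Φ.filt (k + d), (M ^ d) *ᵥ x ∈ Φ.filt k := by
    intro d
    induction d with
    | zero => intro k x hx; simpa using hx
    | succ d ih =>
      intro k x hx
      rw [pow_succ, ← Matrix.mulVec_mulVec, happ]
      exact ih k _ (Φ.unip_shift (show u ∈ Φ.unip from hu) (k + d) hx)
  have h0 : M ^ (2 * m + 1) = 0 := Matrix.ext_of_mulVec_single fun i => by
    have := hpow (2 * m + 1) 0 _ (by simpa using Φ.filt_top (Pi.single i 1))
    rw [Matrix.zero_mulVec]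
    simpa [filt] using this
  refine ⟨2 * m + 1, Subtype.ext (Subtype.ext (Subtype.ext (Units.ext ?_)))⟩
  simp only [SubmonoidClass.coe_pow, OneMemClass.coe_one, Units.val_pow_eq_pow_val, Units.val_one]
  have hle : 2 * m + 1 ≤ p ^ (2 * m + 1) := (Nat.lt_pow_self (Fact.out (p := p.Prime)).one_lt).le
  rw [show ((u : GL ι F) : Matrix ι ι F) = 1 + M by rw [hM]; abel]
  rcases isEmpty_or_nonempty ι with he | hne
  · exact Subsingleton.elim _ _
  rw [add_pow_char_pow_of_commute p (2 * m + 1) (Commute.one_left M), one_pow,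
    pow_eq_zero_of_le hle h0, add_zero]

end OFrame

end Cfsg.Agent.OrthBN
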