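import Cfsg.Agent.Lib.OrthBN.Steinberg

/-!
# Isometries of the anisotropic core

* `fix_cases`, `torus_eq_one` : the `p`-elements of the torus are trivial;
* `refl_not_mem_eichGen` : reflections outside `eichGen Q` when all its pairs are anisotropic;
* `eichGen_le_omega_of_aniso`, `omega_le_eichGen_of_torus` : `Ω = eichGen Q` for small spaces.
-/

set_option autoImplicit false
set_option linter.unusedSectionVars false

namespace Cfsg.Agent.OrthBN

open Cfsg Matrix Module Cfsg.Agent.Orth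
open QuadraticMap (polar)
open scoped commutatorElement

variable {ι : Type} [Fintype ι] [DecidableEq ι] {F : Type*} [Field F] [Fintype F]
variable {Q : QuadraticForm F (ι → F)} {m : ℕ}

theorem eq_one_of_pow_prime_pow (p : ℕ) [Fact p.Prime] [CharP F p] {l : F} {k : ℕ} (h : l ^ p ^ k = 1) :
    l = 1 := by
  rw [← sub_eq_zero]
  refine eq_zero_of_pow_eq_zero (n := p ^ k) ?_
  rw [sub_pow_char_pow, h, one_pow, sub_self]

theorem ap_pow_smul {g : IsoGrp Q} {x : ι → F} {l : F} (h : ap g x = l • x) :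
    ∀ n : ℕ, ap (g ^ n) x = l ^ n • x
  | 0 => by simp
  | n + 1 => by rw [pow_succ', ap_mul, ap_pow_smul h n, map_smul, h, smul_smul, ← pow_succ]

namespace OFrame

variable (Φ : OFrame Q m)

/-- Two vectors of the core orthogonal to a third one are proportional. -/
def LineCore : Prop := ∀ x y z : ι → F, Φ.Off x → Φ.Off y → Φ.Off z → x ≠ 0 → y ≠ 0 →
  polar ⇑Q x y = 0 → polar ⇑Q x z = 0 → ∃ c : F, z = c • y

theorem off_sub {x y : ι → F} (hx : Φ.Off x) (hy : Φ.Off y) : Φ.Off (x - y) :=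
  fun b => by rw [pl_sub_right, hx, hy, sub_zero]

theorem off_smul {x : ι → F} (hx : Φ.Off x) (c : F) : Φ.Off (c • x) :=
  fun b => by rw [pl_smul_right, hx, mul_zero]

theorem off_ap {t : IsoGrp Q} (hv : ∀ b, ap t (Φ.v b) = Φ.v b) {w : ι → F} (hw : Φ.Off w) : Φ.Off (ap t w) :=
  fun b => by rw [← hv b, polar_ap, hw]

theorem refl_fix {x : ι → F} (hx : Φ.Off x) (b : Ix m) : ap (refl Q x) (Φ.v b) = Φ.v b :=
  refl_ap_of_orth Q (Φ.off_pl hx b)

/-- In characteristic two an isometry of the core fixing a vector is trivial or its reflection. -/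
theorem fix_cases (hline : Φ.LineCore) (h2 : (2 : F) = 0) {t : IsoGrp Q} (hv : ∀ b, ap t (Φ.v b) = Φ.v b)
    {x : ι → F} (hx : Φ.Off x) (hx0 : x ≠ 0) (htx : ap t x = x) : t = 1 ∨ t = refl Q x := by
  have hQx : Q x ≠ 0 := fun h => hx0 (Φ.aniso x hx h)
  have hxx : polar ⇑Q x x = 0 := by rw [pl_self, h2, zero_mul]
  have hfix : ∀ w, Φ.Off w → polar ⇑Q x w = 0 → ap t w = w := by
    intro w hw hxw
    obtain ⟨c, rfl⟩ := hline x x w hx hx hw hx0 hx0 hxx hxw
    rw [map_smul, htx]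
  have hcases : ∀ w, Φ.Off w → ap t w = w ∨ ap t w = ap (refl Q x) w := by
    intro w hw
    have hz : polar ⇑Q x (ap t w - w) = 0 := by
      rw [pl_sub_right]
      conv_lhs => rw [← htx, polar_ap, htx]
      rw [sub_self]
    obtain ⟨c, hc⟩ := hline x x _ hx hx (Φ.off_sub (Φ.off_ap hv hw) hw) hx0 hx0 hxx hz
    have he : ap t w = w + c • x := by rw [← hc, add_sub_cancel]
    have hQ := Q_ap (Q := Q) t w
    rw [he, Q_add, Q_smul, pl_smul_right] at hQ
    have h0 : c * (c * Q x + polar ⇑Q w x) = 0 := by linear_combination hQ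
    rcases mul_eq_zero.1 h0 with h | h
    · exact Or.inl (by rw [he, h, zero_smul, add_zero])
    · refine Or.inr ?_
      rw [he, refl_ap, show (Q x)⁻¹ * polar ⇑Q x w = -c by
        rw [pl_comm (Q := Q) x w, show polar ⇑Q w x = -(c * Q x) by linear_combination h]; field_simp]
      rw [neg_smul, sub_neg_eq_add]
  by_cases hex : ∃ w, Φ.Off w ∧ polar ⇑Q x w ≠ 0 ∧ ap t w = w
  · obtain ⟨w₁, hw₁, hp₁, ht₁⟩ := hex
    refine Or.inl (Φ.ext_of (fun b => by rw [hv, ap_one]) fun w hw => ?_)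
    have h := hfix (w - (polar ⇑Q x w / polar ⇑Q x w₁) • w₁) (Φ.off_sub hw (Φ.off_smul hw₁ _))
      (by rw [pl_sub_right, pl_smul_right, div_mul_cancel₀ _ hp₁, sub_self])
    rw [map_sub, map_smul, ht₁] at h
    rw [ap_one]
    exact sub_left_injective h
  · push Not at hex
    refine Or.inr (Φ.ext_of (fun b => by rw [hv, Φ.refl_fix hx]) fun w hw => ?_)
    rcases hcases w hw with h | h
    · rw [h, refl_ap_of_orth Q]
      by_contra hne
      exact hex w hw hne h
    · exact h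

/-- The `p`-elements of the torus are trivial. -/
theorem torus_eq_one (p : ℕ) [Fact p.Prime] [CharP F p] (hline : Φ.LineCore) {G : Subgroup (IsoGrp Q)}
    (hrefl : (2 : F) = 0 → ∀ x, Φ.Off x → x ≠ 0 → refl Q x ∉ G) :
    ∀ t ∈ G, t ∈ Φ.torus → ∀ k : ℕ, t ^ p ^ k = 1 → t = 1 := by
  intro t htG ht k hk
  have hv : ∀ b, ap t (Φ.v b) = Φ.v b := by
    intro b
    obtain ⟨l, hl⟩ := ht b
    have h1 := ap_pow_smul hl (p ^ k)
    rw [hk, ap_one] at h1
    have hl1 : l ^ p ^ k = 1 := by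
      have h := congrArg (polar ⇑Q (Φ.v b.swap)) h1.symm
      rwa [pl_smul_right, Φ.pl_swap, mul_one] at h
    rw [hl, eq_one_of_pow_prime_pow p hl1, one_smul]
  refine Φ.ext_of (fun b => by rw [hv, ap_one]) fun w₀ hw₀ => ?_
  rw [ap_one]
  by_contra hne
  -- a fixed vector of the core
  set M : Matrix ι ι F := ((t : GL ι F) : Matrix ι ι F) - 1 with hM
  have happ : ∀ x, M *ᵥ x = ap t x - x := fun x => by rw [hM, Matrix.sub_mulVec, Matrix.one_mulVec]; rfl
  have hpow : M ^ p ^ k = 0 := by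
    rcases isEmpty_or_nonempty ι with he | hne
    · exact Subsingleton.elim _ _
    have h1 : ((t : GL ι F) : Matrix ι ι F) ^ p ^ k = 1 := by
      have := congrArg (fun g : IsoGrp Q => ((g : GL ι F) : Matrix ι ι F)) hk
      simpa using this
    rw [hM, sub_pow_char_pow_of_commute p k (Commute.one_right _), h1, one_pow, sub_self]
  have hiter : ∀ d (x : ι → F), Φ.Off x → x ≠ 0 → (M ^ d) *ᵥ x = 0 → ∃ y, Φ.Off y ∧ y ≠ 0 ∧ ap t y = y := by
    intro d
    induction d with
    | zero => intro x _ hx0 h; exact absurd (by simpa using h) hx0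
    | succ d ih =>
      intro x hx hx0 h
      rw [pow_succ, ← Matrix.mulVec_mulVec, happ] at h
      by_cases hfix : ap t x - x = 0
      · exact ⟨x, hx, hx0, sub_eq_zero.1 hfix⟩
      · exact ih _ (Φ.off_sub (Φ.off_ap hv hx) hx) hfix h
  obtain ⟨x, hx, hx0, htx⟩ := hiter (p ^ k) w₀ hw₀ (fun h => hne (by rw [h, map_zero]))
    (by rw [hpow, Matrix.zero_mulVec])
  by_cases h2 : (2 : F) = 0
  · rcases Φ.fix_cases hline h2 hv hx hx0 htx with h | h
    · exact hne (by rw [h, ap_one])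
    · exact hrefl h2 x hx hx0 (h ▸ htG)
  · have hxx : polar ⇑Q x x ≠ 0 := by
      rw [pl_self]
      exact mul_ne_zero h2 fun h => hx0 (Φ.aniso x hx h)
    set c := polar ⇑Q x w₀ / polar ⇑Q x x
    set y := w₀ - c • x with hy
    have hyo : Φ.Off y := Φ.off_sub hw₀ (Φ.off_smul hx c)
    have hxy : polar ⇑Q x y = 0 := by rw [hy, pl_sub_right, pl_smul_right, div_mul_cancel₀ _ hxx, sub_self]
    have hy' : ap t y = y := by
      by_cases hy0 : y = 0
      · rw [hy0, map_zero]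
      obtain ⟨r, hr⟩ := hline x y (ap t y) hx hyo (Φ.off_ap hv hyo) hx0 hy0 hxy
        (by rw [← htx, polar_ap, hxy])
      have h1 := ap_pow_smul hr (p ^ k)
      rw [hk, ap_one] at h1
      have hr1 : r ^ p ^ k = 1 := by
        by_contra hr1
        exact hy0 ((smul_eq_zero.1 (show (r ^ p ^ k - 1) • y = 0 by rw [sub_smul, one_smul, ← h1, sub_self])).resolve_left
          fun h => hr1 (sub_eq_zero.1 h))
      rw [hr, eq_one_of_pow_prime_pow p hr1, one_smul]
    exact hne (by rw [show w₀ = y + c • x by rw [hy, sub_add_cancel], map_add, map_smul, hy', htx])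

/-- The fundamental pair of a frame with one pair. -/
theorem perp_off {Φ : OFrame Q 1} {w : ι → F} (hw : w ∈ perp Q (Φ.e 0) (Φ.f 0)) : Φ.Off w := by
  rintro (i | i) <;> rw [Fin.eq_zero i]
  exacts [(mem_perp.1 hw).1, (mem_perp.1 hw).2]

theorem off_perp {Φ : OFrame Q 1} {w : ι → F} (hw : Φ.Off w) : w ∈ perp Q (Φ.e 0) (Φ.f 0) :=
  mem_perp.2 ⟨hw _, hw _⟩

theorem eich_eq_refl_mul {e w : ι → F} (he : Q e = 0) (hew : polar ⇑Q e w = 0) (hQw : Q w ≠ 0) :
    eich Q e w = refl Q w * refl Q (w + Q w • e) := by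
  refine ext_ap fun x => ?_
  have h1 : Q (w + Q w • e) = Q w := by
    rw [Q_add, Q_smul, he, pl_smul_right, pl_comm (Q := Q) w e, hew]; ring
  rw [eich_ap he hew, ap_mul, refl_ap, refl_ap, h1]
  simp only [map_sub, map_add, map_smul, pl_add_left, pl_smul_left, pl_sub_right, pl_add_right, pl_smul_right,
    pl_self, pl_comm (Q := Q) w e, hew]
  match_scalars <;> field_simp <;> ring

/-- With an anisotropic perpendicular of the pair, reflections are outside `eichGen Q`. -/
theorem refl_not_mem_eichGen (Φ : OFrame Q 1) (hn : 3 ≤ Fintype.card ι) {x : ι → F} (hx : Q x ≠ 0) :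
    refl Q x ∉ eichGen Q := by
  have hE : ∀ g ∈ eichGen Q, ∀ h : IsoGrp Q, dick (g * h) = dick h := by
    let K : Subgroup (IsoGrp Q) :=
      { carrier := {g | ∀ h : IsoGrp Q, dick (g * h) = dick h}
        one_mem' := fun h => by rw [one_mul]
        mul_mem' := fun {a b} ha hb h => by rw [mul_assoc, ha, hb]
        inv_mem' := fun {a} ha h => by rw [← ha (a⁻¹ * h), mul_inv_cancel_left] }
    have hle : eichGen Q ≤ K := by
      rw [(Φ.hpair (.inl 0)).eichGen_eq Φ.nd hn, eichPair, Subgroup.closure_le]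
      have key : ∀ e w, Q e = 0 → polar ⇑Q e w = 0 → Φ.Off w → eich Q e w ∈ K := by
        intro e w he hew hw
        by_cases hw0 : w = 0
        · rw [hw0, eich_zero]; exact one_mem _
        have hQw : Q w ≠ 0 := fun h => hw0 (Φ.aniso w hw h)
        have hQw' : Q (w + Q w • e) ≠ 0 := by
          rw [Q_add, Q_smul, he, pl_smul_right, pl_comm (Q := Q) w e, hew]
          simpa using hQw
        intro h
        rw [eich_eq_refl_mul he hew hQw, mul_assoc, dick_refl_mul Φ.nd _ hQw, dick_refl_mul Φ.nd _ hQw', neg_neg]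
      rintro _ ⟨w, hw, rfl | rfl⟩
      · exact key _ _ (Φ.sing _) (mem_perp.1 hw).1 (perp_off hw)
      · exact key _ _ (Φ.sing _) (mem_perp.1 hw).2 (perp_off hw)
    exact fun g hg => hle hg
  intro h
  have := hE _ h 1
  rw [mul_one, dick_refl Φ.nd hx, dick_one] at this
  norm_num at this

/-- With an anisotropic perpendicular of the pair, the Eichler transformations are commutators. -/
theorem eichGen_le_omega_of_aniso (Φ : OFrame Q 1) (hn : 3 ≤ Fintype.card ι) :
    eichGen Q ≤ Omega F ⇑Q := by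
  rw [(Φ.hpair (.inl 0)).eichGen_eq Φ.nd hn, eichPair, Subgroup.closure_le]
  have key : ∀ e f, HPair Q e f → (∀ w, w ∈ perp Q e f → Φ.Off w) → ∀ u ∈ perp Q e f,
      eich Q e u ∈ Omega F ⇑Q := by
    intro e f hp hoff u hu
    by_cases hu0 : u = 0
    · rw [hu0, eich_zero]; exact one_mem _
    have hQu : Q u ≠ 0 := fun h => hu0 (Φ.aniso u (hoff u hu) h)
    obtain ⟨y, hy, hyu⟩ := hp.perp_nondeg Φ.nd hu hu0
    set w := (-(Q u) / polar ⇑Q u y) • y with hw
    have hwp : w ∈ perp Q e f := Submodule.smul_mem _ _ hy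
    have h1 : ⁅refl Q u, eich Q e w⁆ = eich Q e u := by
      rw [commutatorElement_def, conj_eich, eich_inv,
        refl_ap_of_orth Q (by rw [pl_comm (Q := Q)]; exact (mem_perp.1 hu).1),
        eich_add hp.qe (by
          rw [refl_ap, pl_sub_right, (mem_perp.1 hwp).1, pl_smul_right, (mem_perp.1 hu).1]; ring)
          (by rw [pl_neg_right, (mem_perp.1 hwp).1, neg_zero])]
      congr 1
      rw [refl_ap, hw, pl_smul_right, div_mul_cancel₀ _ hyu, mul_neg, inv_mul_cancel₀ hQu, neg_one_smul]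
      abel
    rw [← h1]
    exact Subgroup.commutator_mem_commutator (Subgroup.mem_top _) (Subgroup.mem_top _)
  rintro _ ⟨w, hw, rfl | rfl⟩
  · exact key _ _ (Φ.hpair (.inl 0)) (fun w hw => perp_off hw) w hw
  · exact key _ _ (Φ.hpair (.inl 0)).swap
      (fun w hw => perp_off (by rwa [← perp_swap])) w (by rwa [perp_swap])

/-- `Ω ≤ eichGen Q` when the torus commutes modulo `eichGen Q`. -/
theorem omega_le_eichGen_of_torus (Φ : OFrame Q 1) (hn : 3 ≤ Fintype.card ι)
    (hA : ∀ a ∈ Φ.torus, ∀ b ∈ Φ.torus, ⁅a, b⁆ ∈ eichGen Q) : Omega F ⇑Q ≤ eichGen Q := by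
  have hp := Φ.hpair (.inl 0)
  have hdec : ∀ g : IsoGrp Q, ∃ y ∈ eichGen Q, ∃ a ∈ Φ.torus, g = y * a := by
    intro g
    obtain ⟨g₁, hg₁, c, hc, hc1⟩ := hp.swap.exists_move_singular Φ.nd hn
      (x := ap g (Φ.e 0)) (fun h => Φ.v_ne_zero _ (ap_inj g (h.trans (map_zero _).symm)))
      (by rw [Q_ap, Φ.sing])
    rw [eichPair_swap] at hg₁
    set h := g₁ * g with hh
    have hhe : ap h (Φ.e 0) = c • Φ.e 0 := by rw [hh, ap_mul, hc1]
    set x := c • ap h (Φ.f 0) with hx
    have hex : polar ⇑Q (Φ.e 0) x = 1 := by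
      rw [hx, pl_smul_right, ← pl_smul_left, ← hhe, polar_ap, Φ.pl_ef]
    set w := wPart Q (Φ.e 0) (Φ.f 0) x with hw
    have hwp : w ∈ perp Q (Φ.e 0) (Φ.f 0) := hp.wPart_mem x
    have hQx : polar ⇑Q (Φ.f 0) x + Q w = 0 := by
      have h1 := hp.Q_comb hwp (polar ⇑Q (Φ.f 0) x) (polar ⇑Q (Φ.e 0) x)
      rw [hw, show Sum.swap (Sum.inl (0 : Fin 1)) = Sum.inr 0 from rfl, ← Orth.decomp (Q := Q), hx, Q_smul, Q_ap,
        Φ.sing, mul_zero, ← hx, hex, mul_one] at h1
      exact h1.symm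
    set a := eich Q (Φ.e 0) (-w) * h with ha
    have hwe : polar ⇑Q (Φ.e 0) (-w) = 0 := by rw [pl_neg_right, (mem_perp.1 hwp).1, neg_zero]
    have hae : ap a (Φ.e 0) = c • Φ.e 0 := by
      rw [ha, ap_mul, hhe, map_smul, eich_ap (Φ.sing _) hwe, pl_neg_left, pl_comm (Q := Q) w,
        (mem_perp.1 hwp).1, Φ.pl_eq_zero (by simp)]
      simp
    have hax : ap (eich Q (Φ.e 0) (-w)) x = Φ.f 0 := by
      have h1 := hp.eich_left_ap (neg_mem hwp) hwp (polar ⇑Q (Φ.f 0) x) (polar ⇑Q (Φ.e 0) x)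
      rw [show Sum.swap (Sum.inl (0 : Fin 1)) = Sum.inr 0 from rfl] at h1
      rw [← Orth.decomp (Q := Q) (Φ.e 0) (Φ.f 0) x, hex, QuadraticMap.map_neg, pl_neg_left, pl_self, one_smul,
        mul_one, one_smul, add_neg_cancel, add_zero] at h1
      rw [h1, show polar ⇑Q (Φ.f 0) x - -(2 * Q w) - Q w = 0 by linear_combination hQx, zero_smul, zero_add]
    have haf : ap a (Φ.f 0) = c⁻¹ • Φ.f 0 := by
      rw [ha, ap_mul, show ap h (Φ.f 0) = c⁻¹ • x by rw [hx, smul_smul, inv_mul_cancel₀ hc, one_smul],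
        map_smul, hax]
    refine ⟨g₁⁻¹ * (eich Q (Φ.e 0) (-w))⁻¹,
      mul_mem (inv_mem (eichPair_le _ _ hg₁)) (inv_mem (eich_mem_eichGen _ _)), a, ?_, by rw [ha, hh]; group⟩
    rintro (i | i) <;> rw [Fin.eq_zero i]
    exacts [⟨c, hae⟩, ⟨c⁻¹, haf⟩]
  rw [Omega, commutator_def, Subgroup.commutator_le]
  intro g _ h _
  obtain ⟨y, hy, a, ha, rfl⟩ := hdec g
  obtain ⟨z, hz, b, hb, rfl⟩ := hdec h
  rw [← QuotientGroup.eq_one_iff, ← QuotientGroup.mk'_apply, map_commutatorElement, map_mul, map_mul,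
    show QuotientGroup.mk' (eichGen Q) y = 1 from (QuotientGroup.eq_one_iff y).2 hy,
    show QuotientGroup.mk' (eichGen Q) z = 1 from (QuotientGroup.eq_one_iff z).2 hz, one_mul, one_mul,
    ← map_commutatorElement]
  exact (QuotientGroup.eq_one_iff _).2 (hA a ha b hb)

end OFrame

end Cfsg.Agent.OrthBN
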