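import Cfsg.Agent.Lib.OrthBN.Simp
import Cfsg.Agent.Lib.UnitaryBN.Abstract
import Cfsg.Agent.Lib.Orth.Simple

/-!
# The (B,N)-pair of the group generated by the Eichler transformations

* `Simple`, `sim j` : the fundamental element, its permutation, root set and parabolic;
* `rankOne` : the rank one data of `UnitaryBN.RankOneData` on `eichGen Q`.
-/

set_option autoImplicit false
set_option linter.unusedSectionVars false

namespace Cfsg.Agent.OrthBN

open Cfsg Matrix Module Cfsg.Agent.Orth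
open QuadraticMap (polar)

variable {ι : Type} [Fintype ι] [DecidableEq ι] {F : Type*} [Field F] [Fintype F]
variable {Q : QuadraticForm F (ι → F)} {m : ℕ}

namespace OFrame

variable (Φ : OFrame Q m)

/-- A fundamental element with its rank one properties. -/
structure Simple where
  s : IsoGrp Q
  π : Ix m → Ix m
  X : Set (IsoGrp Q)
  P : Subgroup (IsoGrp Q)
  s_mem : s ∈ eichGen Q
  sends : ∀ a, Φ.Sends s a (π a)
  invol : ∀ a, π (π a) = a
  X_le : ∀ x ∈ X, x ∈ Φ.unip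
  B_le : Φ.bor ≤ P
  mem_P : s ∈ P
  key : ∀ g ∈ P, g ∈ Φ.bor ∨ ∃ x ∈ X, ∃ c ∈ Φ.bor, g = x * s * c
  dich : ∀ g ∈ Φ.mono, (∀ x ∈ X, g * x * g⁻¹ ∈ Φ.bor) ∨ ∀ x ∈ X, g * s⁻¹ * x * (g * s⁻¹)⁻¹ ∈ Φ.bor
  moved : ∃ x ∈ X, s * x * s⁻¹ ∉ Φ.bor

theorem Simple.s_mono (S : Φ.Simple) : S.s ∈ Φ.mono := fun a => ⟨_, S.sends a⟩

/-- The element exchanging two pairs. -/
noncomputable def mkPair (a : Fin m) (C : Ix m) (hlt : a.val < pos C) (hC : C ≠ .inr a) (P : Subgroup (IsoGrp Q))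
    (hB : Φ.bor ≤ P) (hs : Φ.sX (.inl a) C ∈ P)
    (hkey : ∀ g ∈ P, g ∈ Φ.bor ∨ ∃ t : F, ∃ c ∈ Φ.bor,
      g = eich Q (Φ.e a) (t • Φ.v C.swap) * Φ.sX (.inl a) C * c) : Φ.Simple where
  s := Φ.sX (.inl a) C
  π := pairPerm (.inl a) C
  X := {g | ∃ t : F, g = eich Q (Φ.v (.inl a)) (t • Φ.v C.swap)}
  P := P
  s_mem := Φ.sX_mem _ _
  sends := Φ.sX_sends (fun e => by rw [e] at hlt; simp [pos] at hlt) (by simpa using hC)
  invol b := by
    have h1 : C ≠ Sum.inl a := fun e => by rw [e] at hlt; simp [pos] at hlt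
    have h2 : C ≠ Sum.swap (Sum.inl a : Ix m) := by simpa using hC
    obtain ⟨p1, p2, p3, p4, p5⟩ := pairPerm_cases h1 h2
    rcases eq_or_ne b (.inl a) with rfl | a1
    · rw [p1, p2]
    rcases eq_or_ne b C with rfl | a2
    · rw [p2, p1]
    rcases eq_or_ne b (Sum.swap (Sum.inl a : Ix m)) with rfl | a3
    · rw [p3, p4]
    rcases eq_or_ne b C.swap with rfl | a4
    · rw [p4, p3]
    rw [p5 b a1 a2 a3 a4, p5 b a1 a2 a3 a4]
  X_le := by
    rintro _ ⟨t, rfl⟩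
    have := Φ.eich_pair_mem (A := .inl a) (C := C) (by simpa [pos] using hlt) 1 t
    rwa [one_smul] at this
  B_le := hB
  mem_P := hs
  key g hg := (hkey g hg).imp_right fun ⟨t, c, hc, e⟩ => ⟨_, ⟨t, rfl⟩, c, hc, e⟩
  dich g hg := by
    obtain ⟨A', hA⟩ := hg (.inl a)
    obtain ⟨C', hC'⟩ := hg C
    have hne : A' ≠ C' := fun e => by
      have := Φ.sends_inj hA (e ▸ hC')
      rw [← this] at hlt
      simp [pos] at hlt
    rcases lt_or_gt_of_ne (fun e => hne (pos_injective e)) with h | h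
    · refine Or.inl ?_
      rintro _ ⟨t, rfl⟩
      exact Φ.unip_le_bor (Φ.conj_pair hg hA hC' h t)
    · refine Or.inr ?_
      have h1 : C ≠ Sum.inl a := fun e => by rw [e] at hlt; simp [pos] at hlt
      have h2 : C ≠ Sum.swap (Sum.inl a : Ix m) := by simpa using hC
      obtain ⟨p1, p2, -, -, -⟩ := pairPerm_cases h1 h2
      have hs' := Φ.sX_sends h1 h2
      have s1 : Φ.Sends (Φ.sX (.inl a) C)⁻¹ (.inl a) C :=
        Φ.sends_symm (by have := hs' C; rwa [p2] at this)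
      have s2 : Φ.Sends (Φ.sX (.inl a) C)⁻¹ C (.inl a) :=
        Φ.sends_symm (by have := hs' (.inl a); rwa [p1] at this)
      rintro _ ⟨t, rfl⟩
      exact Φ.unip_le_bor (Φ.conj_pair (mul_mem hg (Φ.mono.inv_mem fun b => ⟨_, hs' b⟩))
        (Φ.sends_trans s1 hC') (Φ.sends_trans s2 hA) h t)
  moved := by
    have h1 : C ≠ Sum.inl a := fun e => by rw [e] at hlt; simp [pos] at hlt
    have h2 : C ≠ Sum.swap (Sum.inl a : Ix m) := by simpa using hC
    obtain ⟨p1, p2, -, -, -⟩ := pairPerm_cases h1 h2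
    have hs' := Φ.sX_sends h1 h2
    exact ⟨_, ⟨1, rfl⟩, Φ.moved_pair (fun b => ⟨_, hs' b⟩) h1 h2
      (by have := hs' (.inl a); rwa [p1] at this) (by have := hs' C; rwa [p2] at this) rfl
      (by simpa [pos] using hlt)⟩

/-- The exchange of neighbouring pairs. -/
noncomputable def adj (j j' : Fin m) (hj : j'.val = j.val + 1) : Φ.Simple :=
  Φ.mkPair j (.inl j') (by simp [pos]; omega) (by simp) (Φ.pres {k | k ≠ j.val + 1})
    (fun _ hg k _ x hx => Φ.bor_low hg hx)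
    (by
      have h1 : (Sum.inl j' : Ix m) ≠ .inl j := by simp [Fin.ext_iff]; omega
      have h2 : (Sum.inl j' : Ix m) ≠ Sum.swap (.inl j) := by simp
      obtain ⟨p1, p2, -, -, p5⟩ := pairPerm_cases h1 h2
      refine Φ.mem_pres_of_sends (Φ.sX_sends h1 h2) fun k (hk : k ≠ j.val + 1) i hi => ?_
      rcases eq_or_ne (Sum.inl i : Ix m) (.inl j) with e | e1
      · obtain rfl := Sum.inl.inj e
        rw [p1]; simp only [pos, Sum.elim_inl]; omega
      rcases eq_or_ne (Sum.inl i : Ix m) (.inl j') with e | e2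
      · obtain rfl := Sum.inl.inj e
        rw [p2]; simp only [pos, Sum.elim_inl]; omega
      rw [p5 _ e1 e2 (by simp) (by simp)]
      simp only [pos, Sum.elim_inl]; omega)
    (fun g hg => Φ.key_pair hj hg)

/-- Without core: the exchange of the last two pairs with a turn. -/
noncomputable def lastD (hoff : ∀ w, Φ.Off w → w = 0) (i a : Fin m) (hi : a.val = i.val + 1)
    (ha : a.val + 1 = m) : Φ.Simple :=
  Φ.mkPair i (.inr a) (by simp [pos]; omega) (by simp [Fin.ext_iff]; omega)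
    ((Φ.rel a).pres {k | k ≠ i.val + 1})
    (by rw [← Φ.rel_bor hoff ha]; exact fun _ hg k _ x hx => (Φ.rel a).bor_low hg hx)
    (by
      have h := ((Φ.rel a).adj i a hi).mem_P
      have e : (Φ.rel a).sX (.inl i) (.inl a) = Φ.sX (.inl i) (.inr a) := by
        simp only [sX, rel, flipPerm, Sum.swap_inl, Sum.swap_inr, Equiv.swap_apply_left,
          Equiv.swap_apply_right, Equiv.swap_apply_of_ne_of_ne (show (Sum.inl i : Ix m) ≠ Sum.inl a by
            simp [Fin.ext_iff]; omega) (show (Sum.inl i : Ix m) ≠ Sum.inr a by simp),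
          Equiv.swap_apply_of_ne_of_ne (show (Sum.inr i : Ix m) ≠ Sum.inl a by simp)
            (show (Sum.inr i : Ix m) ≠ Sum.inr a by simp [Fin.ext_iff]; omega)]
      rw [← e]
      exact h)
    (fun g hg => by
      have hne : i ≠ a := fun e => by subst e; omega
      have e1 : (Φ.rel a).e i = Φ.e i := Φ.rel_e hne
      have e : (Φ.rel a).sX (.inl i) (.inl a) = Φ.sX (.inl i) (.inr a) := by
        simp only [sX, rel, flipPerm, Sum.swap_inl, Sum.swap_inr, Equiv.swap_apply_left,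
          Equiv.swap_apply_right, Equiv.swap_apply_of_ne_of_ne (show (Sum.inl i : Ix m) ≠ Sum.inl a by
            simp [hne]) (show (Sum.inl i : Ix m) ≠ Sum.inr a by simp),
          Equiv.swap_apply_of_ne_of_ne (show (Sum.inr i : Ix m) ≠ Sum.inl a by simp)
            (show (Sum.inr i : Ix m) ≠ Sum.inr a by simp [hne])]
      have h := (Φ.rel a).key_pair hi hg
      rwa [Φ.rel_bor hoff ha, e, e1, Φ.rel_f_self] at h)

/-- With core: the turn of the last pair. -/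
noncomputable def lastB (a : Fin m) (ha : a.val + 1 = m) (w₀ : ι → F) (hw : Φ.Off w₀) (hQ : Q w₀ ≠ 0) :
    Φ.Simple where
  s := Φ.fl a w₀
  π := flipPerm a
  X := {g | ∃ w, Φ.Off w ∧ g = eich Q (Φ.e a) w}
  P := Φ.pres {k | k < m}
  s_mem := Φ.fl_mem _ _
  sends := Φ.fl_sends hw hQ
  invol b := Equiv.swap_apply_self _ _ b
  X_le := by
    rintro _ ⟨w, hw, rfl⟩
    have := Φ.eich_off_mem a 1 hw
    rwa [one_smul] at this
  B_le _ hg k _ x hx := Φ.bor_low hg hx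
  mem_P := Φ.mem_pres_of_sends (Φ.fl_sends hw hQ) fun k (hk : k < m) i hi => by
    rw [flipPerm, Equiv.swap_apply_of_ne_of_ne (by simp [Fin.ext_iff]; omega) (by simp)]
    simp only [pos, Sum.elim_inl]; omega
  key g hg := (Φ.key_flip ha hw hQ hg).imp_right fun ⟨w, hw, c, hc, e⟩ => ⟨_, ⟨w, hw, rfl⟩, c, hc, e⟩
  dich g hg := by
    obtain ⟨b, hb⟩ := hg (.inl a)
    rcases b with b | b
    · refine Or.inl ?_
      rintro _ ⟨w, hw', rfl⟩
      exact Φ.unip_le_bor (Φ.conj_flip hg hb hw')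
    · refine Or.inr ?_
      have hb' : Φ.Sends g (.inr a) (.inl b) := by simpa using Φ.sends_swap hg hb
      have hs : Φ.Sends (Φ.fl a w₀)⁻¹ (.inl a) (.inr a) := Φ.sends_symm (by
        simpa [flipPerm] using Φ.fl_sends hw hQ (a := a) (.inr a))
      rintro _ ⟨w, hw', rfl⟩
      exact Φ.unip_le_bor (Φ.conj_flip (mul_mem hg (Φ.mono.inv_mem fun c => ⟨_, Φ.fl_sends hw hQ c⟩))
        (Φ.sends_trans hs hb') hw')
  moved := ⟨_, ⟨w₀, hw, rfl⟩, Φ.moved_flip (fun c => ⟨_, Φ.fl_sends hw hQ c⟩)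
    (by simpa [flipPerm] using Φ.fl_sends hw hQ (a := a) (.inl a)) hw hQ⟩

/-- A non-singular vector orthogonal to the frame, if there is one. -/
def HasCore : Prop := ∃ w, Φ.Off w ∧ w ≠ 0

theorem HasCore.exists_ns {Φ : OFrame Q m} (h : Φ.HasCore) : ∃ w, Φ.Off w ∧ Q w ≠ 0 :=
  let ⟨w, hw, h0⟩ := h; ⟨w, hw, fun h' => h0 (Φ.aniso w hw h')⟩

theorem off_eq_zero (h : ¬ Φ.HasCore) : ∀ w, Φ.Off w → w = 0 :=
  fun w hw => by_contra fun h0 => h ⟨w, hw, h0⟩

variable (hm : Φ.HasCore ∨ 2 ≤ m)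

open Classical in
/-- The fundamental elements. -/
noncomputable def sim (j : Fin m) : Φ.Simple :=
  if hj : j.val + 1 < m then Φ.adj j ⟨j.val + 1, hj⟩ rfl
  else if hc : Φ.HasCore then Φ.lastB j (by omega) hc.exists_ns.choose hc.exists_ns.choose_spec.1 hc.exists_ns.choose_spec.2
  else Φ.lastD (Φ.off_eq_zero hc) ⟨j.val - 1, by omega⟩ j
    (by have := hm.resolve_left hc; simp; omega) (by omega)

theorem sim_adj {j : Fin m} (hj : j.val + 1 < m) : Φ.sim hm j = Φ.adj j ⟨j.val + 1, hj⟩ rfl := by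
  rw [sim, dif_pos hj]

theorem sim_B {j : Fin m} (hj : ¬ j.val + 1 < m) (hc : Φ.HasCore) : Φ.sim hm j =
    Φ.lastB j (by omega) hc.exists_ns.choose hc.exists_ns.choose_spec.1 hc.exists_ns.choose_spec.2 := by
  rw [sim, dif_neg hj, dif_pos hc]

theorem sim_D {j : Fin m} (hj : ¬ j.val + 1 < m) (hc : ¬ Φ.HasCore) : Φ.sim hm j =
    Φ.lastD (Φ.off_eq_zero hc) ⟨j.val - 1, by omega⟩ j (by have := hm.resolve_left hc; simp; omega)
      (by omega) := by
  rw [sim, dif_neg hj, dif_neg hc]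

/-- The image of `inl i` under the `j`-th permutation. -/
theorem sim_π (j i : Fin m) : (Φ.sim hm j).π (.inl i) ≠ .inl i ↔
    (i = j ∨ (j.val + 1 < m ∧ i.val = j.val + 1) ∨ (¬ j.val + 1 < m ∧ ¬ Φ.HasCore ∧ i.val + 1 = j.val)) := by
  by_cases hj : j.val + 1 < m
  · rw [Φ.sim_adj hm hj]
    show pairPerm _ _ _ ≠ _ ↔ _
    simp only [pairPerm, Equiv.Perm.mul_apply, Equiv.swap_apply_def, Sum.swap_inl, Sum.inl.injEq, reduceCtorEq,
      if_false, Fin.ext_iff]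
    split_ifs <;> simp [Fin.ext_iff] <;> omega
  · by_cases hc : Φ.HasCore
    · rw [Φ.sim_B hm hj hc]
      show flipPerm _ _ ≠ _ ↔ _
      simp only [flipPerm, Equiv.swap_apply_def, Sum.inl.injEq, reduceCtorEq, if_false, hj, hc, not_true,
        false_and, and_false, or_false]
      split_ifs with h <;> simp [h]
    · rw [Φ.sim_D hm hj hc]
      show pairPerm _ _ _ ≠ _ ↔ _
      have := hm.resolve_left hc
      simp only [pairPerm, Equiv.Perm.mul_apply, Equiv.swap_apply_def, Sum.swap_inl, Sum.swap_inr,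
        Sum.inl.injEq, reduceCtorEq, if_false, hj, hc, not_false_eq_true, false_and, false_or, true_and,
        Fin.ext_iff]
      split_ifs <;> simp_all [Fin.ext_iff] <;> omega

theorem sim_inj {i j : Fin m} (h : ∀ a, (Φ.sim hm i).π a = (Φ.sim hm j).π a) : i = j := by
  by_contra hne
  have hv : i.val ≠ j.val := fun e => hne (Fin.ext e)
  have h1 := Φ.sim_π hm i i
  rw [h, Φ.sim_π hm j i] at h1
  have h1' := h1.2 (Or.inl rfl)
  have h2 := Φ.sim_π hm j j
  rw [← h, Φ.sim_π hm i j] at h2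
  have h2' := h2.2 (Or.inl rfl)
  simp only [Fin.ext_iff, hv, hv.symm, false_or] at h1' h2'
  -- the neighbours moved by an exchange and by the last element differ in their images
  rcases h1' with ⟨hj, e⟩ | ⟨hj, hc, e⟩ <;> rcases h2' with ⟨hi, e'⟩ | ⟨hi, hc', e'⟩
  · omega
  · have := h (.inl j)
    rw [Φ.sim_D hm hi hc', Φ.sim_adj hm hj] at this
    have hij : i = ⟨j.val + 1, hj⟩ := Fin.ext e
    subst hij
    change pairPerm _ _ _ = pairPerm _ _ _ at this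
    simp [pairPerm, Equiv.swap_apply_def, Fin.ext_iff] at this
  · have := h (.inl i)
    rw [Φ.sim_D hm hj hc, Φ.sim_adj hm hi] at this
    have hji : j = ⟨i.val + 1, hi⟩ := Fin.ext e'
    subst hji
    change pairPerm _ _ _ = pairPerm _ _ _ at this
    simp [pairPerm, Equiv.swap_apply_def, Fin.ext_iff] at this
  · omega

/-- The fundamental element in the group. -/
noncomputable def sE (j : Fin m) : ↥(eichGen Q) := ⟨(Φ.sim hm j).s, (Φ.sim hm j).s_mem⟩

/-- The torus in the group. -/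
def torusE : Subgroup ↥(eichGen Q) := Φ.torus.subgroupOf (eichGen Q)

/-- The flag stabiliser in the group. -/
def borE : Subgroup ↥(eichGen Q) := Φ.bor.subgroupOf (eichGen Q)

/-- The group generated by the fundamental elements and the torus. -/
noncomputable def nGroup : Subgroup ↥(eichGen Q) :=
  Subgroup.closure (Set.range (Φ.sE hm)) ⊔ Φ.torusE

theorem nGroup_le_mono : Φ.nGroup hm ≤ Φ.mono.subgroupOf (eichGen Q) :=
  sup_le ((Subgroup.closure_le _).2 (by rintro _ ⟨j, rfl⟩; exact (Φ.sim hm j).s_mono))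
    fun _ h => Φ.torus_le_mono h

theorem sE_mem (j : Fin m) : Φ.sE hm j ∈ Φ.nGroup hm :=
  Subgroup.mem_sup_left (Subgroup.subset_closure ⟨j, rfl⟩)

theorem sE_inj {i j : Fin m} (h : (Φ.sE hm i)⁻¹ * Φ.sE hm j ∈ Φ.borE) : i = j := by
  have ht := Φ.mono_inf_bor (mul_mem (Φ.mono.inv_mem (Φ.sim hm i).s_mono) (Φ.sim hm j).s_mono) h
  refine Φ.sim_inj hm fun a => ?_
  have h1 := Φ.sends_trans (ht a) ((Φ.sim hm i).sends a)
  rw [← mul_assoc, mul_inv_cancel, one_mul] at h1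
  exact Φ.sends_unique h1 ((Φ.sim hm j).sends a)

theorem sE_apply_eq {i j : Fin m} (h : Φ.sE hm i = Φ.sE hm j) : i = j :=
  Φ.sE_inj hm (by rw [h, inv_mul_cancel]; exact one_mem _)

/-- The first pair is carried to every later one, and turned round. -/
theorem exists_turn (h0 : 0 < m) : ∃ g ∈ Φ.nGroup hm, Φ.Sends g.1 (.inr ⟨0, h0⟩) (.inl ⟨0, h0⟩) := by
  have up : ∀ (k : ℕ) (hk : k < m), ∃ g ∈ Φ.nGroup hm,
      Φ.Sends g.1 (.inl ⟨0, h0⟩) (.inl ⟨k, hk⟩) ∧ Φ.Sends g.1 (.inr ⟨0, h0⟩) (.inr ⟨k, hk⟩) := by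
    intro k
    induction k with
    | zero => exact fun _ => ⟨1, one_mem _, Φ.sends_one _, Φ.sends_one _⟩
    | succ k ih =>
      intro hk
      obtain ⟨g, hg, g1, g2⟩ := ih (by omega)
      refine ⟨Φ.sE hm ⟨k, by omega⟩ * g, mul_mem (Φ.sE_mem hm _) hg, ?_⟩
      have h1 : (Sum.inl ⟨k + 1, hk⟩ : Ix m) ≠ .inl ⟨k, by omega⟩ := by simp [Fin.ext_iff]
      obtain ⟨p1, -, p3, -, -⟩ := pairPerm_cases h1 (by simp)
      have hs : ∀ a, Φ.Sends (Φ.sE hm ⟨k, by omega⟩).1 a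
          (pairPerm (.inl ⟨k, by omega⟩) (.inl ⟨k + 1, hk⟩) a) := by
        intro a
        show Φ.Sends (Φ.sim hm ⟨k, by omega⟩).s _ _
        rw [Φ.sim_adj hm (j := ⟨k, by omega⟩) hk]
        exact Φ.sX_sends h1 (by simp) a
      have s1 := hs (.inl ⟨k, by omega⟩)
      have s2 := hs (Sum.swap (.inl ⟨k, by omega⟩))
      rw [p1] at s1
      rw [p3] at s2
      exact ⟨Φ.sends_trans g1 s1, Φ.sends_trans g2 s2⟩
  obtain ⟨g, hg, g1, g2⟩ := up (m - 1) (by omega)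
  set a : Fin m := ⟨m - 1, by omega⟩
  have ha : ¬ a.val + 1 < m := by simp [a]; omega
  by_cases hc : Φ.HasCore
  · refine ⟨g⁻¹ * Φ.sE hm a * g, mul_mem (mul_mem (inv_mem hg) (Φ.sE_mem hm _)) hg, ?_⟩
    have := (Φ.sim hm a).sends (.inr a)
    rw [Φ.sim_B hm ha hc] at this
    have hs : Φ.Sends (Φ.sE hm a).1 (.inr a) (.inl a) := by
      show Φ.Sends (Φ.sim hm a).s _ _
      rw [Φ.sim_B hm ha hc]
      simpa [lastB, flipPerm] using this
    simp only [Subgroup.coe_mul, InvMemClass.coe_inv]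
    exact Φ.sends_trans g2 (Φ.sends_trans hs (Φ.sends_symm g1))
  · have h2m := hm.resolve_left hc
    obtain ⟨g', hg', g1', -⟩ := up (m - 2) (by omega)
    refine ⟨g'⁻¹ * Φ.sE hm a * g, mul_mem (mul_mem (inv_mem hg') (Φ.sE_mem hm _)) hg, ?_⟩
    have hs : Φ.Sends (Φ.sE hm a).1 (.inr a) (.inl ⟨m - 2, by omega⟩) := by
      show Φ.Sends (Φ.sim hm a).s _ _
      rw [Φ.sim_D hm ha hc]
      have h1 : (Sum.inr a : Ix m) ≠ Sum.inl ⟨a.val - 1, by omega⟩ := by simp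
      have h2 : (Sum.inr a : Ix m) ≠ Sum.swap (Sum.inl ⟨a.val - 1, by omega⟩) := by
        simp [Fin.ext_iff, a]; omega
      have h3 := Φ.sX_sends h1 h2 (.inr a)
      rw [(pairPerm_cases h1 h2).2.1] at h3
      exact h3
    simp only [Subgroup.coe_mul, InvMemClass.coe_inv]
    exact Φ.sends_trans g2 (Φ.sends_trans hs (Φ.sends_symm g1'))

theorem borE_sup_nGroup (h0 : 0 < m) (hn : 3 ≤ Fintype.card ι) : Φ.borE ⊔ Φ.nGroup hm = ⊤ := by
  have hB : ∀ (l : F) (y : ι → F), polar ⇑Q (Φ.e ⟨0, h0⟩) y = 0 → eich Q (l • Φ.e ⟨0, h0⟩) y ∈ Φ.bor :=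
    fun l y hy => Φ.unip_le_bor (Φ.eich_mem_unip l fun i hi => by
      rw [show i = ⟨0, h0⟩ from Fin.ext (Nat.le_zero.1 hi)]; exact hy)
  have hgen : eichGen Q ≤ (Φ.borE ⊔ Φ.nGroup hm).map (eichGen Q).subtype := by
    conv_lhs => rw [(Φ.hpair (.inl ⟨0, h0⟩)).eichGen_eq Φ.nd hn]
    rw [eichPair, Subgroup.closure_le]
    rintro _ ⟨w, hw, rfl | rfl⟩
    · refine ⟨⟨_, eich_mem_eichGen _ _⟩, Subgroup.mem_sup_left ?_, rfl⟩
      have := hB 1 w (mem_perp.1 hw).1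
      rwa [one_smul] at this
    · obtain ⟨g, hg, l, hl⟩ := Φ.exists_turn hm h0
      have hb : g.1 * eich Q (Φ.v (.inr ⟨0, h0⟩)) w * g.1⁻¹ ∈ Φ.bor := by
        rw [conj_eich, hl]
        refine hB l _ ?_
        have h1 := polar_ap (Q := Q) g.1 (Φ.v (.inr ⟨0, h0⟩)) w
        rw [hl, pl_smul_left, show polar ⇑Q (Φ.v (.inr ⟨0, h0⟩)) w = 0 from (mem_perp.1 hw).2] at h1
        exact (mul_eq_zero.1 h1).resolve_left (Φ.sends_ne_zero hl)
      refine ⟨⟨_, eich_mem_eichGen _ _⟩, ?_, rfl⟩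
      have h2 : g * ⟨_, eich_mem_eichGen (Φ.v (.inr ⟨0, h0⟩)) w⟩ * g⁻¹ ∈ Φ.borE := hb
      have h3 := mul_mem (mul_mem (Subgroup.mem_sup_right (S := Φ.borE) (inv_mem hg))
        (Subgroup.mem_sup_left (T := Φ.nGroup hm) h2)) (Subgroup.mem_sup_right (S := Φ.borE) hg)
      simpa [mul_assoc] using h3
  refine eq_top_iff.2 fun x _ => ?_
  obtain ⟨y, hy, e⟩ := hgen x.2
  rwa [show x = y from Subtype.ext e.symm]

/-- The rank one data. -/
noncomputable def rankOne (h0 : 0 < m) (hn : 3 ≤ Fintype.card ι) :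
    UnitaryBN.RankOneData ↥(eichGen Q) where
  B := Φ.borE
  N := Φ.nGroup hm
  S := Set.range (Φ.sE hm)
  X s := {x | ∀ j, Φ.sE hm j = s → x.1 ∈ (Φ.sim hm j).X} ∩ Φ.borE
  P s := ⨅ (j : Fin m) (_ : Φ.sE hm j = s), (Φ.sim hm j).P.subgroupOf (eichGen Q)
  sup_eq_top := Φ.borE_sup_nGroup hm h0 hn
  conj_mem g hg t ht := Φ.torus_le_bor (Φ.torus_normalized (Φ.nGroup_le_mono hm hg)
    (Φ.mono_inf_bor (Φ.nGroup_le_mono hm ht.2) ht.1))
  subset := by rintro _ ⟨j, rfl⟩; exact Φ.sE_mem hm j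
  sq_mem := by
    rintro _ ⟨j, rfl⟩
    refine Φ.torus_le_bor fun a => ?_
    have := Φ.sends_trans ((Φ.sim hm j).sends a) ((Φ.sim hm j).sends _)
    rwa [(Φ.sim hm j).invol] at this
  inj := by rintro _ ⟨i, rfl⟩ _ ⟨j, rfl⟩ h; exact congrArg _ (Φ.sE_inj hm h)
  closure_sup := le_antisymm (sup_le le_sup_left inf_le_right)
    (sup_le le_sup_left (le_sup_of_le_right (le_inf (fun _ h => Φ.torus_le_bor h) le_sup_right)))
  X_le _ _ _ hx := hx.2
  B_le := by
    rintro _ _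
    exact le_iInf₂ fun j _ _ hx => (Φ.sim hm j).B_le hx
  mem_P := by
    rintro _ ⟨j, rfl⟩
    simp only [Subgroup.mem_iInf]
    intro i hi
    obtain rfl := Φ.sE_apply_eq hm hi
    exact (Φ.sim hm i).mem_P
  key := by
    rintro _ ⟨j, rfl⟩ g hg
    simp only [Subgroup.mem_iInf] at hg
    rcases (Φ.sim hm j).key g.1 (hg j rfl) with h | ⟨x, hx, c, hc, e⟩
    · exact Or.inl h
    · have hxE : x ∈ eichGen Q := Φ.unip_le_eichGen ((Φ.sim hm j).X_le x hx)
      have hcE : c ∈ eichGen Q := by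
        have : c = (x * (Φ.sim hm j).s)⁻¹ * g.1 := by rw [e]; group
        rw [this]
        exact mul_mem (inv_mem (mul_mem hxE (Φ.sim hm j).s_mem)) g.2
      exact Or.inr ⟨⟨x, hxE⟩, ⟨fun i hi => by rwa [Φ.sE_apply_eq hm hi],
        Φ.unip_le_bor ((Φ.sim hm j).X_le x hx)⟩, ⟨c, hcE⟩, hc, Subtype.ext e⟩
  dich := by
    rintro _ ⟨j, rfl⟩ g hg
    rcases (Φ.sim hm j).dich _ (Φ.mono.inv_mem (Φ.nGroup_le_mono hm hg)) with h | h
    · exact Or.inl fun x hx => by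
        show g.1⁻¹ * x.1 * g.1 ∈ Φ.bor
        simpa using h x.1 (hx.1 j rfl)
    · exact Or.inr fun x hx => by
        show ((Φ.sim hm j).s * g.1)⁻¹ * x.1 * ((Φ.sim hm j).s * g.1) ∈ Φ.bor
        simpa [_root_.mul_inv_rev] using h x.1 (hx.1 j rfl)
  moved := by
    rintro _ ⟨j, rfl⟩
    obtain ⟨x, hx, h⟩ := (Φ.sim hm j).moved
    exact ⟨⟨x, Φ.unip_le_eichGen ((Φ.sim hm j).X_le x hx)⟩,
      ⟨fun i hi => by rwa [Φ.sE_apply_eq hm hi], Φ.unip_le_bor ((Φ.sim hm j).X_le x hx)⟩, h⟩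

end OFrame

end Cfsg.Agent.OrthBN
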