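import Cfsg.Agent.Lib.OrthBN.Basic
import Cfsg.Agent.Lib.OrthTwoGen.Frame

/-!
# The fundamental monomial elements of an orthogonal group and their rank one properties

* `rel a` : the frame with the last pair turned round;
* `sX A C`, `fl a w` : the exchange of two pairs and the turn of one pair;
* `key_pair`, `key_flip` : the rank one decompositions;
* `conj_pair`, `conj_flip`, `moved_pair`, `moved_flip` : the conjugation properties.
-/

set_option autoImplicit false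
set_option linter.unusedSectionVars false

namespace Cfsg.Agent.OrthBN

open Cfsg Matrix Module Cfsg.Agent.Orth
open QuadraticMap (polar)

variable {ι : Type} [Fintype ι] [DecidableEq ι] {F : Type*} [Field F] [Fintype F]
variable {Q : QuadraticForm F (ι → F)} {m : ℕ}

/-- The exchange of the pairs of `A` and `C`. -/
def pairPerm (A C : Ix m) : Equiv.Perm (Ix m) := Equiv.swap A C * Equiv.swap A.swap C.swap

/-- The turn of one pair. -/
def flipPerm (a : Fin m) : Equiv.Perm (Ix m) := Equiv.swap (.inl a) (.inr a)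

theorem flipPerm_swap (a : Fin m) (b : Ix m) : flipPerm a b.swap = (flipPerm a b).swap := by
  rcases b with i | i <;> by_cases h : i = a
  all_goals first
    | (subst h; simp [flipPerm, Equiv.swap_apply_def])
    | simp [flipPerm, Equiv.swap_apply_def, h]

theorem swap_eq_iff {a b : Ix m} : a.swap = b ↔ a = b.swap :=
  ⟨fun h => by rw [← h, Sum.swap_swap], fun h => by rw [h, Sum.swap_swap]⟩

theorem pairPerm_cases {A C : Ix m} (h1 : C ≠ A) (h2 : C ≠ A.swap) :
    pairPerm A C A = C ∧ pairPerm A C C = A ∧ pairPerm A C A.swap = C.swap ∧ pairPerm A C C.swap = A.swap ∧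
      ∀ a, a ≠ A → a ≠ C → a ≠ A.swap → a ≠ C.swap → pairPerm A C a = a := by
  have h3 : C.swap ≠ A := fun e => h2 (swap_eq_iff.1 e)
  have h4 : C.swap ≠ A.swap := fun e => h1 (by simpa using congrArg Sum.swap e)
  have h5 : A.swap ≠ A := swap_ne A
  have h6 : C.swap ≠ C := swap_ne C
  refine ⟨?_, ?_, ?_, ?_, fun a a1 a2 a3 a4 => ?_⟩ <;> simp only [pairPerm, Equiv.Perm.mul_apply]
  · rw [Equiv.swap_apply_of_ne_of_ne h5.symm h3.symm, Equiv.swap_apply_left]
  · rw [Equiv.swap_apply_of_ne_of_ne h2 h6.symm, Equiv.swap_apply_right]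
  · rw [Equiv.swap_apply_left, Equiv.swap_apply_of_ne_of_ne h3 h6]
  · rw [Equiv.swap_apply_right, Equiv.swap_apply_of_ne_of_ne h5 h2.symm]
  · rw [Equiv.swap_apply_of_ne_of_ne a3 a4, Equiv.swap_apply_of_ne_of_ne a1 a2]

namespace OFrame

variable (Φ : OFrame Q m)

/-- The frame with the pair `a` turned round. -/
def rel (a : Fin m) : OFrame Q m where
  v b := Φ.v (flipPerm a b)
  sing _ := Φ.sing _
  pl b c := by
    rw [Φ.pl]
    simp only [← flipPerm_swap, (flipPerm a).injective.eq_iff]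
  aniso x hx hQ := Φ.aniso x (fun b => by simpa using hx ((flipPerm a).symm b)) hQ
  nd := Φ.nd

theorem rel_e {a i : Fin m} (h : i ≠ a) : (Φ.rel a).e i = Φ.e i :=
  congrArg Φ.v (Equiv.swap_apply_of_ne_of_ne (by simp [h]) (by simp))

theorem rel_e_self (a : Fin m) : (Φ.rel a).e a = Φ.f a := by
  simp [rel, flipPerm, e, f]

theorem rel_f_self (a : Fin m) : (Φ.rel a).f a = Φ.e a := by
  simp [rel, flipPerm, e, f]

theorem rel_off (a : Fin m) {w : ι → F} : (Φ.rel a).Off w ↔ Φ.Off w :=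
  ⟨fun h b => by simpa [rel] using h ((flipPerm a).symm b), fun h b => h _⟩

theorem rel_low {a : Fin m} {k : ℕ} (h : k ≤ a.val) : (Φ.rel a).low k = Φ.low k := by
  simp only [low]
  congr 1
  refine Set.image_congr fun i hi => ?_
  exact Φ.rel_e fun e => by subst e; exact absurd (show i.val < k from hi) (by omega)

theorem rel_rel (a : Fin m) : (Φ.rel a).rel a = Φ := by
  obtain ⟨v, h1, h2, h3, h4⟩ := Φ
  simp [rel, flipPerm]

/-- Without core the last member is determined by the others. -/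
theorem bor_le_rel (hoff : ∀ w, Φ.Off w → w = 0) {a : Fin m} (ha : a.val + 1 = m) :
    Φ.bor ≤ (Φ.rel a).bor := by
  intro g hg
  refine (Φ.rel a).mem_bor_iff.2 fun i => ?_
  by_cases hia : i = a
  · subst hia
    rw [Φ.rel_e_self]
    set y := ap g (Φ.f i) with hy
    have hey : ∀ j : Fin m, j.val < i.val → polar ⇑Q (Φ.e j) y = 0 := fun j hj =>
      Φ.bor_low_orth hg (k := i.val) (fun l hl => Φ.pl_eq_zero
        (by simp only [Sum.swap_inl, ne_eq, Sum.inr.injEq]; omega)) hj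
    have hd : polar ⇑Q (Φ.e i) y ≠ 0 := by
      intro h0
      have hyl : y ∈ Φ.low m := by
        rw [Φ.decomp y, hoff _ (Φ.proj_off y), add_zero]
        refine Submodule.sum_mem _ fun b _ => ?_
        rcases b with j | j
        · exact Submodule.smul_mem _ _ (Φ.e_mem_low j.isLt)
        · rw [Sum.swap_inr]
          rcases Nat.lt_or_ge j.val i.val with h | h
          · rw [hey j h, zero_smul]; exact zero_mem _
          · rw [show j = i from Fin.ext (by omega), h0, zero_smul]; exact zero_mem _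
      have h1 := Φ.bor_low (inv_mem hg) hyl
      rw [hy, ap_inv_ap, Φ.v_mem_low_iff le_rfl] at h1
      simp only [pos, Sum.elim_inr] at h1
      omega
    have hfi : polar ⇑Q (Φ.f i) y = 0 := by
      have h0 : Q y = 0 := by rw [hy, Q_ap, Φ.sing]
      have hs : y = (∑ b, polar ⇑Q (Φ.v b.swap) y • Φ.v b) := by
        conv_lhs => rw [Φ.decomp y, hoff _ (Φ.proj_off y), add_zero]
      -- the value of the form on the coordinates
      have hQ : Q y = polar ⇑Q (Φ.e i) y * polar ⇑Q (Φ.f i) y := by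
        have hrest : (∑ b, polar ⇑Q (Φ.v b.swap) y • Φ.v b) =
            (∑ j, polar ⇑Q (Φ.f j) y • Φ.e j) + polar ⇑Q (Φ.e i) y • Φ.f i := by
          rw [Fintype.sum_sum_type]
          congr 1
          rw [Finset.sum_eq_single i]
          · rfl
          · intro j _ hj
            rw [Sum.swap_inr]
            have : j.val ≠ i.val := fun e => hj (Fin.ext e)
            rw [hey j (by omega), zero_smul]
          · simp
        have hz : Q (∑ j, polar ⇑Q (Φ.f j) y • Φ.e j) = 0 := by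
          have : ∀ s : Finset (Fin m), Q (∑ j ∈ s, polar ⇑Q (Φ.f j) y • Φ.e j) = 0 := by
            intro s
            induction s using Finset.induction_on with
            | empty => simp
            | insert j s hjs ih =>
              rw [Finset.sum_insert hjs, Q_add, ih, Q_smul, Φ.sing, pl_smul_left,
                show polar ⇑Q (Φ.e j) (∑ l ∈ s, polar ⇑Q (Φ.f l) y • Φ.e l) =
                  Q.polarBilin (Φ.e j) (∑ l ∈ s, polar ⇑Q (Φ.f l) y • Φ.e l) from rfl, map_sum]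
              simp [Φ.pl]
          exact this _
        conv_lhs => rw [hs, hrest]
        rw [Q_add, hz, Q_smul, Φ.sing, pl_smul_right,
          show polar ⇑Q (∑ j, polar ⇑Q (Φ.f j) y • Φ.e j) (Φ.f i) =
            Q.polarBilin (∑ j, polar ⇑Q (Φ.f j) y • Φ.e j) (Φ.f i) from rfl]
        simp [map_sum, LinearMap.sum_apply, Φ.pl]
      rw [hQ] at h0
      exact (mul_eq_zero.1 h0).resolve_left hd
    rw [Φ.decomp y, hoff _ (Φ.proj_off y), add_zero]
    refine Submodule.sum_mem _ fun b _ => ?_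
    rcases b with j | j
    · by_cases hj : j = i
      · subst hj; rw [Sum.swap_inl, hfi, zero_smul]; exact zero_mem _
      · refine Submodule.smul_mem _ _ ?_
        show Φ.e j ∈ _
        rw [← Φ.rel_e hj]
        exact (Φ.rel i).e_mem_low (by omega)
    · by_cases hj : j = i
      · subst hj
        refine Submodule.smul_mem _ _ ?_
        show Φ.f j ∈ _
        rw [← Φ.rel_e_self]
        exact (Φ.rel j).e_mem_low (Nat.lt_succ_self _)
      · rw [Sum.swap_inr]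
        have : j.val ≠ i.val := fun e => hj (Fin.ext e)
        rw [hey j (by omega), zero_smul]
        exact zero_mem _
  · have hi : i.val + 1 ≤ a.val := by
      have : i.val ≠ a.val := fun e => hia (Fin.ext e)
      omega
    rw [Φ.rel_e hia, Φ.rel_low hi]
    exact Φ.mem_bor_iff.1 hg i

theorem rel_bor (hoff : ∀ w, Φ.Off w → w = 0) {a : Fin m} (ha : a.val + 1 = m) : (Φ.rel a).bor = Φ.bor := by
  refine le_antisymm ?_ (Φ.bor_le_rel hoff ha)
  have := (Φ.rel a).bor_le_rel (fun w hw => hoff w ((Φ.rel_off a).1 hw)) ha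
  rwa [Φ.rel_rel] at this

/-! ### The elements -/

/-- The exchange of two pairs. -/
noncomputable def sX (A C : Ix m) : IsoGrp Q :=
  OrthTwoGen.swapEl Q (Φ.v A) (Φ.v A.swap) (Φ.v C) (Φ.v C.swap)

theorem sX_mem (A C : Ix m) : Φ.sX A C ∈ eichGen Q := OrthTwoGen.swapEl_mem_eichGen _ _ _ _

theorem sX_sends {A C : Ix m} (h1 : C ≠ A) (h2 : C ≠ A.swap) (a : Ix m) :
    Φ.Sends (Φ.sX A C) a (pairPerm A C a) := by
  have h3 : C.swap ≠ A.swap := fun e => h1 (by simpa using congrArg Sum.swap e)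
  obtain ⟨s1, s2, s3, s4, s5⟩ := OrthTwoGen.swapEl_ap (Φ.hpair A) (Φ.hpair C) (Φ.pl_eq_zero h2)
    (Φ.pl_eq_zero h3) (Φ.pl_eq_zero (by rw [Sum.swap_swap]; exact h1))
    (Φ.pl_eq_zero (by rw [Sum.swap_swap]; exact fun e => h2 (swap_eq_iff.1 e)))
  obtain ⟨p1, p2, p3, p4, p5⟩ := pairPerm_cases h1 h2
  rcases eq_or_ne a A with rfl | a1
  · exact ⟨1, by rw [p1, one_smul]; exact s1⟩
  rcases eq_or_ne a C with rfl | a2
  · exact ⟨-1, by rw [p2, neg_one_smul]; exact s3⟩
  rcases eq_or_ne a A.swap with rfl | a3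
  · exact ⟨1, by rw [p3, one_smul]; exact s2⟩
  rcases eq_or_ne a C.swap with rfl | a4
  · exact ⟨-1, by rw [p4, neg_one_smul]; exact s4⟩
  refine ⟨1, ?_⟩
  rw [p5 a a1 a2 a3 a4, one_smul]
  exact s5 _ (Φ.pl_eq_zero a3) (Φ.pl_eq_zero (by rwa [Sum.swap_swap])) (Φ.pl_eq_zero a4)
    (Φ.pl_eq_zero (by rwa [Sum.swap_swap]))

/-- The turn of the pair `a` along `w`. -/
noncomputable def fl (a : Fin m) (w : ι → F) : IsoGrp Q :=
  eich Q (Φ.e a) w * eich Q (Φ.f a) ((Q w)⁻¹ • w) * eich Q (Φ.e a) w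

theorem fl_mem (a : Fin m) (w : ι → F) : Φ.fl a w ∈ eichGen Q :=
  mul_mem (mul_mem (eich_mem_eichGen _ _) (eich_mem_eichGen _ _)) (eich_mem_eichGen _ _)

theorem fl_sends {a : Fin m} {w : ι → F} (hw : Φ.Off w) (hQw : Q w ≠ 0) (b : Ix m) :
    Φ.Sends (Φ.fl a w) b (flipPerm a b) := by
  have hv : polar ⇑Q (Φ.f a) ((Q w)⁻¹ • w) = 0 := by rw [pl_smul_right, hw, mul_zero]
  have hwv : ∀ c, polar ⇑Q w (Φ.v c) = 0 := Φ.off_pl hw
  have hA : ∀ x, ap (eich Q (Φ.e a) w) x =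
      x + polar ⇑Q (Φ.e a) x • w - (polar ⇑Q w x + Q w * polar ⇑Q (Φ.e a) x) • Φ.e a :=
    eich_ap (Φ.sing _) (hw _)
  have hB : ∀ x, ap (eich Q (Φ.f a) ((Q w)⁻¹ • w)) x = x + polar ⇑Q (Φ.f a) x • ((Q w)⁻¹ • w) -
      ((Q w)⁻¹ * polar ⇑Q w x + (Q w)⁻¹ * (Q w)⁻¹ * Q w * polar ⇑Q (Φ.f a) x) • Φ.f a := fun x => by
    rw [eich_ap (Φ.sing _) hv, pl_smul_left, Q_smul]
  have hee : polar ⇑Q (Φ.e a) (Φ.e a) = 0 := Φ.pl_eq_zero (by simp)
  have hff : polar ⇑Q (Φ.f a) (Φ.f a) = 0 := Φ.pl_eq_zero (by simp)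
  rcases eq_or_ne b (.inl a) with rfl | b1
  · refine ⟨-(Q w)⁻¹, ?_⟩
    rw [fl, ap_mul, ap_mul, show flipPerm a (.inl a) = Sum.inr a by simp [flipPerm]]
    simp only [hA, hB, map_add, map_sub, map_smul, pl_add_right, pl_sub_right, pl_smul_right, hee, hff,
      Φ.pl_fe, Φ.pl_ef, hwv, hw _, pl_self]
    match_scalars <;> field_simp <;> ring
  rcases eq_or_ne b (.inr a) with rfl | b2
  · refine ⟨-Q w, ?_⟩
    rw [fl, ap_mul, ap_mul, show flipPerm a (.inr a) = Sum.inl a by simp [flipPerm]]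
    simp only [hA, hB, map_add, map_sub, map_smul, pl_add_right, pl_sub_right, pl_smul_right, hee, hff,
      Φ.pl_fe, Φ.pl_ef, hwv, hw _, pl_self]
    match_scalars <;> field_simp <;> ring
  refine ⟨1, ?_⟩
  have he : polar ⇑Q (Φ.e a) (Φ.v b) = 0 := Φ.pl_eq_zero b2
  have hf : polar ⇑Q (Φ.f a) (Φ.v b) = 0 := Φ.pl_eq_zero b1
  rw [fl, ap_mul, ap_mul, show flipPerm a b = b from Equiv.swap_apply_of_ne_of_ne b1 b2]
  simp [hA, hB, he, hf, hwv]

/-- The permutation of a monomial element preserving a flag member. -/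
theorem mem_pres_of_sends {g : IsoGrp Q} {π : Equiv.Perm (Ix m)} (hs : ∀ a, Φ.Sends g a (π a)) {K : Set ℕ}
    (hK : ∀ k ∈ K, ∀ i : Fin m, i.val < k → pos (π (.inl i)) < min k m) : g ∈ Φ.pres K :=
  Φ.mem_pres_of_e fun k hk i hi => by
    obtain ⟨l, hl⟩ := hs (.inl i)
    rw [hl]
    refine Submodule.smul_mem _ _ (Φ.low_mono (min_le_left k m) ?_)
    exact (Φ.v_mem_low_iff (min_le_right k m)).2 (hK k hk i hi)

/-! ### The rank one decompositions -/

theorem key_pair {j j' : Fin m} (hj : j'.val = j.val + 1) {g : IsoGrp Q}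
    (hg : g ∈ Φ.pres {k | k ≠ j.val + 1}) :
    g ∈ Φ.bor ∨ ∃ t : F, ∃ c ∈ Φ.bor,
      g = eich Q (Φ.e j) (t • Φ.f j') * Φ.sX (.inl j) (.inl j') * c := by
  by_cases hgj : ap g (Φ.e j) ∈ Φ.low (j.val + 1)
  · left
    refine Φ.mem_bor_iff.2 fun i => ?_
    by_cases hij : i = j
    · subst hij; exact hgj
    · exact hg _ (fun e => hij (Fin.ext (by simpa using e))) _ (Φ.e_mem_low (Nat.lt_succ_self _))
  right
  have hne : (Sum.inl j' : Ix m) ≠ .inl j := by simp [Fin.ext_iff]; omega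
  have hne2 : (Sum.inl j' : Ix m) ≠ Sum.swap (.inl j) := by simp
  set y := ap g (Φ.e j) with hy
  have hy2 : y ∈ Φ.low (j.val + 2) := hg _ (by show _ ≠ _; omega) _ (Φ.e_mem_low (by omega))
  set α := polar ⇑Q (Φ.f j) y with hα
  set β := polar ⇑Q (Φ.f j') y with hβ
  have hβ0 : β ≠ 0 := fun h0 => hgj (Φ.mem_low (Φ.low_e hy2) (fun i hi => by
    rcases eq_or_lt_of_le hi with h | h
    · rw [show i = j' from Fin.ext (by omega)]; exact h0
    · exact Φ.low_f hy2 (by omega)) fun w hw => Φ.low_off hy2 hw)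
  set x := eich Q (Φ.e j) ((-α / β) • Φ.f j') with hx
  have hxB : x ∈ Φ.bor := by
    have := Φ.eich_pair_mem (A := .inl j) (C := .inl j') (by simp [pos]; omega) 1 (-α / β)
    rw [one_smul, Sum.swap_inl] at this
    exact Φ.unip_le_bor this
  have hs : Φ.sX (.inl j) (.inl j') ∈ Φ.pres {k | k ≠ j.val + 1} := by
    refine Φ.mem_pres_of_sends (Φ.sX_sends hne hne2) fun k hk i hi => ?_
    obtain ⟨p1, p2, -, -, p5⟩ := pairPerm_cases hne hne2
    have hk' : k ≠ j.val + 1 := hk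
    rcases eq_or_ne (Sum.inl i : Ix m) (.inl j) with e | e1
    · obtain rfl := Sum.inl.inj e
      rw [p1]; simp only [pos, Sum.elim_inl]; omega
    rcases eq_or_ne (Sum.inl i : Ix m) (.inl j') with e | e2
    · obtain rfl := Sum.inl.inj e
      rw [p2]; simp only [pos, Sum.elim_inl]; omega
    rw [p5 _ e1 e2 (by simp) (by simp)]
    simp only [pos, Sum.elim_inl]; omega
  refine ⟨-α / β, (x * Φ.sX (.inl j) (.inl j'))⁻¹ * g, ?_, by rw [← hx]; group⟩
  have hc : (x * Φ.sX (.inl j) (.inl j'))⁻¹ * g ∈ Φ.pres {k | k ≠ j.val + 1} :=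
    mul_mem (inv_mem (mul_mem (fun k _ v hv => Φ.bor_low hxB hv) hs)) hg
  refine Φ.mem_bor_iff.2 fun i => ?_
  by_cases hij : i = j
  swap
  · exact hc _ (fun e => hij (Fin.ext (by simpa using e))) _ (Φ.e_mem_low (Nat.lt_succ_self _))
  subst hij
  obtain ⟨l, hl⟩ := Φ.sX_sends hne hne2 (.inl i)
  rw [(pairPerm_cases hne hne2).1] at hl
  have hxe : ap x (Φ.e j') = Φ.e j' + (α / β) • Φ.e i := by
    have h1 : polar ⇑Q (Φ.e i) ((-α / β) • Φ.f j') = 0 := by
      rw [pl_smul_right, Φ.pl_eq_zero (by simp [Fin.ext_iff]; omega), mul_zero]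
    rw [hx, eich_ap (Φ.sing _) h1, Φ.pl_eq_zero (by simp), pl_smul_left, Φ.pl_fe]
    match_scalars <;> ring
  set z := y - (β / l) • ap (x * Φ.sX (.inl i) (.inl j')) (Φ.e i) with hz
  have hzl : z ∈ Φ.low i.val := by
    have hl0 : l ≠ 0 := Φ.sends_ne_zero hl
    have e : z = y - β • Φ.e j' - α • Φ.e i := by
      rw [hz, ap_mul, hl, map_smul, hxe]
      match_scalars <;> field_simp
    rw [e]
    have h2 : y - β • Φ.e j' - α • Φ.e i ∈ Φ.low (i.val + 2) :=
      sub_mem (sub_mem hy2 (Submodule.smul_mem _ _ (Φ.e_mem_low (by omega))))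
        (Submodule.smul_mem _ _ (Φ.e_mem_low (by omega)))
    refine Φ.mem_low (Φ.low_e h2) (fun k hk => ?_) fun w hw => Φ.low_off h2 hw
    rcases eq_or_lt_of_le hk with h | h
    · obtain rfl : i = k := Fin.ext h
      rw [pl_sub_right, pl_sub_right, pl_smul_right, pl_smul_right, Φ.pl_fe,
        Φ.pl_eq_zero (by simp [Fin.ext_iff]; omega), hα]
      ring
    rcases eq_or_lt_of_le (Nat.succ_le_of_lt h) with h' | h'
    · obtain rfl : j' = k := Fin.ext (by omega)
      rw [pl_sub_right, pl_sub_right, pl_smul_right, pl_smul_right, Φ.pl_fe,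
        Φ.pl_eq_zero (by simp [Fin.ext_iff]; omega), hβ]
      ring
    · exact Φ.low_f h2 (by omega)
  have hzi : ap (x * Φ.sX (.inl i) (.inl j'))⁻¹ z ∈ Φ.low i.val :=
    (inv_mem (mul_mem (fun k _ v hv => Φ.bor_low hxB hv) hs) : _ ∈ Φ.pres {k | k ≠ i.val + 1}) i.val
      (by show _ ≠ _; omega) z hzl
  rw [ap_mul, ← hy, show y = (β / l) • ap (x * Φ.sX (.inl i) (.inl j')) (Φ.e i) + z by rw [hz]; abel, map_add,
    map_smul, ap_inv_ap]
  exact add_mem (Submodule.smul_mem _ _ (Φ.e_mem_low (Nat.lt_succ_self _))) (Φ.low_mono (Nat.le_succ _) hzi)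

theorem key_flip {a : Fin m} (ha : a.val + 1 = m) {w₀ : ι → F} (hw₀ : Φ.Off w₀) (hQw₀ : Q w₀ ≠ 0)
    {g : IsoGrp Q} (hg : g ∈ Φ.pres {k | k < m}) :
    g ∈ Φ.bor ∨ ∃ w, Φ.Off w ∧ ∃ c ∈ Φ.bor, g = eich Q (Φ.e a) w * Φ.fl a w₀ * c := by
  have hlowpres : ∀ {h : IsoGrp Q}, h ∈ Φ.pres {k | k < m} → ∀ i : Fin m, i ≠ a →
      ap h (Φ.e i) ∈ Φ.low (i.val + 1) := fun hh i hi =>
    hh _ (by show _ < m; have : i.val ≠ a.val := fun e => hi (Fin.ext e); omega) _
      (Φ.e_mem_low (Nat.lt_succ_self _))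
  set y := ap g (Φ.e a) with hy
  have hey : ∀ i : Fin m, i ≠ a → polar ⇑Q (Φ.e i) y = 0 := fun i hi => by
    rw [hy, ← ap_ap_inv g (Φ.e i), polar_ap, pl_comm (Q := Q)]
    exact Φ.low_e (hlowpres (inv_mem hg) i hi) a
  set α := polar ⇑Q (Φ.f a) y with hα
  set δ := polar ⇑Q (Φ.e a) y with hδ
  set u := Φ.proj y with hu
  have huo : Φ.Off u := Φ.proj_off y
  set r := (∑ b, polar ⇑Q (Φ.v b.swap) y • Φ.v b) - α • Φ.e a - δ • Φ.f a with hr
  have hrl : r ∈ Φ.low a.val := by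
    have : r = ∑ b, (if b = .inl a ∨ b = .inr a then (0 : F) else polar ⇑Q (Φ.v b.swap) y) • Φ.v b := by
      rw [hr, sub_sub, sub_eq_iff_eq_add']
      rw [show α • Φ.e a + δ • Φ.f a = ∑ b, (if b = .inl a ∨ b = .inr a then polar ⇑Q (Φ.v b.swap) y else 0) • Φ.v b by
        rw [Fintype.sum_sum_type]
        simp [hα, hδ], ← Finset.sum_add_distrib]
      refine Finset.sum_congr rfl fun b _ => ?_
      rw [← add_smul]
      split_ifs <;> simp
    rw [this]
    refine Submodule.sum_mem _ fun b _ => ?_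
    rcases b with i | i <;> by_cases hi : i = a
    · simp [hi]
    · exact Submodule.smul_mem _ _ (Φ.e_mem_low (by have : i.val ≠ a.val := fun e => hi (Fin.ext e); omega))
    · simp [hi]
    · rw [if_neg (by simp [hi]), Sum.swap_inr, hey i hi, zero_smul]; exact zero_mem _
  have hy' : y = r + α • Φ.e a + δ • Φ.f a + u := by
    rw [hr]; conv_lhs => rw [Φ.decomp y]
    abel
  have hr_perp : ∀ c, c ∈ ({Φ.e a, Φ.f a, u} : Set (ι → F)) → polar ⇑Q c r = 0 := by
    rintro c (rfl | rfl | rfl)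
    · exact Φ.low_e hrl a
    · exact Φ.low_f hrl le_rfl
    · exact Φ.low_off hrl huo
  have hQr : Q r = 0 := by
    have : ∀ x ∈ Φ.low a.val, ∀ z ∈ Φ.low a.val, polar ⇑Q x z = 0 := fun x hx z hz =>
      Φ.low_pl hz fun i _ => by rw [pl_comm (Q := Q)]; exact Φ.low_e hx i
    suffices ∀ x ∈ Φ.low a.val, Q x = 0 from this r hrl
    intro x hx
    induction hx using Submodule.span_induction with
    | mem x hx => obtain ⟨i, -, rfl⟩ := hx; exact Φ.sing _
    | zero => simp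
    | add x z hx hz h1 h2 => rw [Q_add, h1, h2, this x hx z hz]; ring
    | smul c x _ h1 => rw [Q_smul, h1, mul_zero]
  have hQy : α * δ + Q u = 0 := by
    have h0 : Q y = 0 := by rw [hy, Q_ap, Φ.sing]
    rw [hy', Q_add, Q_add, Q_add, hQr, Q_smul, Q_smul, Φ.sing, Φ.sing] at h0
    simp only [pl_add_left, pl_smul_left, pl_smul_right, Φ.pl_ef, huo _,
      pl_comm (Q := Q) r, hr_perp _ (Set.mem_insert _ _),
      hr_perp _ (Set.mem_insert_of_mem _ (Set.mem_insert _ _)),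
      hr_perp u (Set.mem_insert_of_mem _ (Set.mem_insert_of_mem _ rfl)), mul_zero, zero_mul, add_zero, zero_add,
      mul_one] at h0
    linear_combination h0
  by_cases hd0 : δ = 0
  · left
    refine Φ.mem_bor_iff.2 fun i => ?_
    by_cases hia : i = a
    swap
    · exact hlowpres hg i hia
    subst hia
    rw [← hy, hy', hd0, zero_smul, add_zero, Φ.aniso u huo (by rw [hd0, mul_zero, zero_add] at hQy; exact hQy),
      add_zero]
    exact add_mem (Φ.low_mono (Nat.le_succ _) hrl) (Submodule.smul_mem _ _ (Φ.e_mem_low (Nat.lt_succ_self _)))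
  right
  set x := eich Q (Φ.e a) (δ⁻¹ • u) with hx
  have huv : Φ.Off (δ⁻¹ • u) := fun b => by rw [pl_smul_right, huo, mul_zero]
  have hxB : x ∈ Φ.bor := by
    have := Φ.eich_off_mem a 1 huv
    rw [one_smul] at this
    exact Φ.unip_le_bor this
  have hs : Φ.fl a w₀ ∈ Φ.pres {k | k < m} :=
    Φ.mem_pres_of_sends (Φ.fl_sends hw₀ hQw₀) fun k (hk : k < m) i hi => by
      rw [flipPerm, Equiv.swap_apply_of_ne_of_ne (by simp [Fin.ext_iff]; omega) (by simp)]
      simp only [pos, Sum.elim_inl]; omega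
  have hxs : x * Φ.fl a w₀ ∈ Φ.pres {k | k < m} := mul_mem (fun k _ v hv => Φ.bor_low hxB hv) hs
  refine ⟨δ⁻¹ • u, huv, (x * Φ.fl a w₀)⁻¹ * g, ?_, by rw [← hx]; group⟩
  have hc : (x * Φ.fl a w₀)⁻¹ * g ∈ Φ.pres {k | k < m} := mul_mem (inv_mem hxs) hg
  refine Φ.mem_bor_iff.2 fun i => ?_
  by_cases hia : i = a
  swap
  · exact hlowpres hc i hia
  subst hia
  obtain ⟨l, hl⟩ := Φ.fl_sends hw₀ hQw₀ (a := i) (.inl i)
  rw [flipPerm, Equiv.swap_apply_left] at hl
  have hxf : δ • ap x (Φ.f i) = δ • Φ.f i + u + α • Φ.e i := by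
    rw [hx, eich_ap (Φ.sing _) (huv _), Φ.pl_ef, Φ.off_pl huv, Q_smul]
    match_scalars
    · simp
    · field_simp
    · field_simp
      linear_combination -hQy
  have e : y = (δ / l) • ap (x * Φ.fl i w₀) (Φ.e i) + r := by
    rw [ap_mul, hl, map_smul, smul_smul, div_mul_cancel₀ _ (Φ.sends_ne_zero hl), hxf, hy']
    abel
  rw [ap_mul, ← hy, e, map_add, map_smul, ap_inv_ap]
  exact add_mem (Submodule.smul_mem _ _ (Φ.e_mem_low (Nat.lt_succ_self _)))
    (Φ.low_mono (Nat.le_succ _) ((inv_mem hxs : _ ∈ Φ.pres {k | k < m}) _ (show i.val < m from i.isLt) r hrl))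

/-! ### Conjugation of root elements -/

theorem conj_pair {g : IsoGrp Q} (hg : g ∈ Φ.mono) {A C A' C' : Ix m} (hA : Φ.Sends g A A')
    (hC : Φ.Sends g C C') (h : pos A' < pos C') (t : F) :
    g * eich Q (Φ.v A) (t • Φ.v C.swap) * g⁻¹ ∈ Φ.unip := by
  obtain ⟨l, hl⟩ := hA
  obtain ⟨k, hk⟩ := Φ.sends_swap hg hC
  rw [conj_eich, hl, map_smul, hk, smul_smul]
  exact Φ.eich_pair_mem h l (t * k)

theorem conj_flip {g : IsoGrp Q} (hg : g ∈ Φ.mono) {a b : Fin m} (hA : Φ.Sends g (.inl a) (.inl b))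
    {w : ι → F} (hw : Φ.Off w) : g * eich Q (Φ.e a) w * g⁻¹ ∈ Φ.unip := by
  obtain ⟨l, hl⟩ := hA
  rw [conj_eich, hl]
  exact Φ.eich_off_mem b l (Φ.mono_off hg hw)

theorem moved_pair {g : IsoGrp Q} (hg : g ∈ Φ.mono) {A C : Ix m} {a : Fin m} (h1 : C ≠ A) (h2 : C ≠ A.swap)
    (hA : Φ.Sends g A C) (hC : Φ.Sends g C A) (ha : A = .inl a) (hlt : pos A < pos C) :
    g * eich Q (Φ.v A) ((1 : F) • Φ.v C.swap) * g⁻¹ ∉ Φ.bor := by
  subst ha
  intro hB
  obtain ⟨l, hl⟩ := hA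
  obtain ⟨k, hk⟩ := Φ.sends_swap hg hC
  have h3 : polar ⇑Q (Φ.v C) (Φ.v (.inr a)) = 0 := Φ.pl_eq_zero fun e => h1 (swap_eq_iff.1 e.symm)
  have hy := Φ.mem_bor_iff.1 hB a
  rw [conj_eich, hl, map_smul, hk, one_smul, eich_smul_left,
    show Sum.swap (Sum.inl a : Ix m) = .inr a from rfl, eich_ap (Φ.sing _)
      (by rw [pl_smul_right, pl_smul_right, h3, mul_zero, mul_zero]), pl_smul_left, pl_smul_left, Φ.pl_fe,
    Φ.pl_eq_zero (b := .inl a) (fun e => h2 (by rw [← swap_eq_iff.1 e.symm]))] at hy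
  have h4 : polar ⇑Q (Φ.v C.swap) (Φ.e a + (0 : F) • l • k • Φ.v (.inr a) -
      (l * (k * 1) + Q (l • k • Φ.v (.inr a)) * 0) • Φ.v C) = 0 := by
    rcases C with c | c
    · refine Φ.low_f hy ?_
      simp only [pos, Sum.elim_inl] at hlt
      omega
    · exact Φ.low_e hy c
  simp only [pl_sub_right, pl_add_right, pl_smul_right, Φ.pl_swap, zero_mul, mul_zero, add_zero, mul_one,
    Φ.pl_eq_zero (a := C.swap) (b := .inl a) (by rw [Sum.swap_swap]; exact h1.symm), zero_sub,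
    neg_eq_zero] at h4
  exact mul_ne_zero (Φ.sends_ne_zero hl) (Φ.sends_ne_zero hk) h4

theorem moved_flip {g : IsoGrp Q} (hg : g ∈ Φ.mono) {a : Fin m} (hA : Φ.Sends g (.inl a) (.inr a))
    {w : ι → F} (hw : Φ.Off w) (hQw : Q w ≠ 0) : g * eich Q (Φ.e a) w * g⁻¹ ∉ Φ.bor := by
  intro hB
  obtain ⟨l, hl⟩ := hA
  have ho := Φ.mono_off hg hw
  have hy := Φ.mem_bor_iff.1 hB a
  rw [conj_eich, hl, eich_smul_left, eich_ap (Φ.sing _) (by rw [pl_smul_right, ho, mul_zero]), pl_smul_left,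
    Φ.off_pl ho, Q_smul, Q_ap, Φ.pl_fe] at hy
  have h4 := Φ.low_e hy a
  simp only [pl_sub_right, pl_add_right, pl_smul_right, ho _, Φ.pl_ef, Φ.pl_eq_zero (a := .inl a) (b := .inl a)
    (by simp), mul_zero, add_zero, zero_add, zero_sub, mul_one, neg_eq_zero] at h4
  exact mul_ne_zero (mul_ne_zero (Φ.sends_ne_zero hl) (Φ.sends_ne_zero hl)) hQw h4

end OFrame

end Cfsg.Agent.OrthBN
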