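import Cfsg.Agent.Lib.OrthBN.Pair
import Cfsg.Agent.Lib.CentralChar.Twist
import Cfsg.Agent.Lib.BN.Longest

/-!
# The Steinberg character of the group generated by the Eichler transformations

* `HasSt p G` : an irreducible character of degree the order of a Sylow `p`-subgroup that is regular on it;
* `HasSt.of_equiv`, `hasSt_deflate`, `hasSt_trivial`;
* `OFrame.hasSt_quot` : the character on `eichGen Q` modulo its centre.
-/

set_option autoImplicit false
set_option linter.unusedSectionVars false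

namespace Cfsg.Agent.OrthBN

open Cfsg Matrix Module Cfsg.Agent.Orth
open QuadraticMap (polar)
open scoped Pointwise

/-- An irreducible character whose restriction to each Sylow `p`-subgroup is regular. -/
def HasSt (p : ℕ) (G : Type*) [Group G] : Prop :=
  ∃ χ : G → ℂ, Cfsg.IsIrrCharacter G χ ∧
    ∀ P : Sylow p G, χ 1 = Nat.card P ∧ ∀ x : G, x ∈ P → x ≠ 1 → χ x = 0

/-- A regular restriction to one Sylow subgroup suffices. -/
theorem hasSt_of_one {p : ℕ} [Fact p.Prime] {G : Type*} [Group G] [Finite G] {χ : G → ℂ}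
    (hχ : Cfsg.IsIrrCharacter G χ) (P : Sylow p G) (h1 : χ 1 = Nat.card P)
    (h2 : ∀ x : G, x ∈ P → x ≠ 1 → χ x = 0) : HasSt p G := by
  refine ⟨χ, hχ, fun P' => ?_⟩
  obtain ⟨g, rfl⟩ := MulAction.exists_smul_eq G P P'
  constructor
  · rw [h1]
    congr 1
    exact Nat.card_congr (Subgroup.equivSMul (MulAut.conj g) (P : Subgroup G)).toEquiv
  · intro x hx hx1
    obtain ⟨n, ρ, -, hρ⟩ := hχ
    have hx' : g⁻¹ * x * g ∈ P := by
      have := Subgroup.mem_pointwise_smul_iff_inv_smul_mem.1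
        (show x ∈ MulAut.conj g • (P : Subgroup G) from hx)
      show g⁻¹ * x * g ∈ (P : Subgroup G)
      simpa [MulAut.smul_def] using this
    have h := h2 _ hx' (fun e => hx1 (by
      calc x = g * (g⁻¹ * x * g) * g⁻¹ := by group
        _ = 1 := by rw [e]; group))
    rw [← hρ] at h ⊢
    have h' := Representation.char_conj ρ x g⁻¹
    rw [inv_inv] at h'
    rw [← h', h]

/-- Passing to the quotient by a normal subgroup in the kernel. -/
theorem hasSt_deflate {p : ℕ} [Fact p.Prime] {G : Type*} [Group G] [Finite G] (N : Subgroup G) [N.Normal]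
    {χ : G → ℂ} (hχ : Cfsg.IsIrrCharacter G χ) (P : Sylow p G) (h1 : χ 1 = Nat.card P)
    (h2 : ∀ x : G, x ∈ P → x ≠ 1 → χ x = 0) (hN : ∀ z ∈ N, χ z = χ 1) : HasSt p (G ⧸ N) := by
  classical
  obtain ⟨ψ, hψ⟩ := CentralChar.exists_deflation N ⟨χ, hχ⟩ hN
  have hinj : Set.InjOn (QuotientGroup.mk' N) (P : Set G) := by
    intro x hx y hy hxy
    by_contra hne
    have hz : x⁻¹ * y ∈ N := QuotientGroup.eq.1 hxy
    have h0 := h2 _ (mul_mem (inv_mem hx) hy) (fun e => hne (inv_mul_eq_one.1 e))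
    rw [hN _ hz, h1] at h0
    exact Nat.card_pos.ne' (Nat.cast_eq_zero.1 h0)
  refine hasSt_of_one ψ.2 (P.mapSurjective (QuotientGroup.mk'_surjective N)) ?_ ?_
  · rw [show ((ψ : Cfsg.IrrCharacter (G ⧸ N)) : G ⧸ N → ℂ) 1 = χ 1 from (hψ 1).symm, h1]
    congr 1
    exact (Nat.card_image_of_injOn hinj).symm
  · intro x hx hx1
    obtain ⟨u, hu, rfl⟩ := hx
    exact (hψ u).symm.trans (h2 u hu (fun e => hx1 (by rw [e, map_one])))

theorem HasSt.of_equiv {p : ℕ} [Fact p.Prime] {G H : Type*} [Group G] [Group H] [Finite H] (e : G ≃* H)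
    (h : HasSt p H) : HasSt p G := by
  haveI : Finite G := Finite.of_equiv H e.symm.toEquiv
  obtain ⟨χ, hχ, hP⟩ := h
  obtain ⟨P⟩ : Nonempty (Sylow p H) := Sylow.nonempty
  refine hasSt_of_one (Char.IsIrrCharacter.comp_equiv hχ e)
    (P.mapSurjective (f := e.symm.toMonoidHom) e.symm.surjective) ?_ ?_
  · show χ (e 1) = _
    rw [map_one, (hP P).1]
    congr 1
    exact (Nat.card_image_of_injective e.symm.injective (P : Set H)).symm
  · intro x hx hx1
    obtain ⟨u, hu, rfl⟩ := hx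
    show χ (e (e.symm u)) = 0
    rw [e.apply_symm_apply]
    exact (hP P).2 u hu fun h => hx1 (by rw [h]; exact map_one e.symm)

/-- In a group of order prime to `p` the trivial character will do. -/
theorem hasSt_trivial {p : ℕ} [Fact p.Prime] {G : Type*} [Group G] [Finite G] (h : ¬ p ∣ Nat.card G) :
    HasSt p G := by
  obtain ⟨P⟩ : Nonempty (Sylow p G) := Sylow.nonempty
  have hP : (P : Subgroup G) = ⊥ := by
    rw [← Subgroup.card_eq_one, P.card_eq_multiplicity, Nat.factorization_eq_zero_of_not_dvd h, pow_zero]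
  refine hasSt_of_one (χ := fun _ => 1) (Char.isIrrCharacter_one) P ?_ ?_
  · rw [show Nat.card P = Nat.card (P : Subgroup G) from rfl, hP, Subgroup.card_bot, Nat.cast_one]
  · intro x hx hx1
    exact absurd (Subgroup.mem_bot.1 (hP ▸ hx)) hx1

variable {ι : Type} [Fintype ι] [DecidableEq ι] {F : Type*} [Field F] [Fintype F]
variable {Q : QuadraticForm F (ι → F)} {m : ℕ}

theorem strictMono_eq {ψ : Fin m → Fin m} (h : StrictMono ψ) (i : Fin m) : ψ i = i := by
  have h1 : h.orderIsoOfSurjective _ (Finite.injective_iff_surjective.1 h.injective) = OrderIso.refl (Fin m) :=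
    Subsingleton.elim _ _
  exact congrArg (fun e : Fin m ≃o Fin m => e i) h1

theorem pos_lt_m {m : ℕ} {b : Ix m} (h : pos b < m) : ∃ i, b = .inl i := by
  rcases b with i | i
  · exact ⟨i, rfl⟩
  · simp [pos] at h; omega

theorem pos_idx_le {m : ℕ} (b : Ix m) : (Sum.elim id id b : Fin m).val ≤ pos b ∧
    (b = .inl (Sum.elim id id b) ∨ b.swap = .inl (Sum.elim id id b)) := by
  rcases b with i | i <;> simp [pos]
  omega

/-- Ascents everywhere force the identity. -/
theorem eq_inl_of_ascent (τ : Fin m → Ix m) (hasc : ∀ i j : Fin m, j.val = i.val + 1 → pos (τ i) < pos (τ j))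
    (hlast : ∀ a : Fin m, a.val + 1 = m → (∃ c, τ a = .inl c) ∨
      ∃ i : Fin m, i.val + 1 = a.val ∧ pos (τ i) < pos (τ a).swap) :
    ∀ i : Fin m, (i.val + 1 < m ∨ ∃ c, τ i = .inl c) → τ i = .inl i := by
  have hmono : ∀ (d : ℕ) (i j : Fin m), j.val = i.val + d → pos (τ i) ≤ pos (τ j) := by
    intro d
    induction d with
    | zero => intro i j h; rw [show i = j from Fin.ext (by omega)]
    | succ d ih =>
      intro i j h
      exact (ih i ⟨i.val + d, by omega⟩ rfl).trans (hasc _ _ (by simpa using by omega)).le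
  have hinl : ∀ i : Fin m, i.val + 1 < m → ∃ c, τ i = .inl c := by
    intro i hi
    set a : Fin m := ⟨m - 1, by omega⟩
    rcases hlast a (by simp [a]; omega) with ⟨c, hc⟩ | ⟨k, hk, hlt⟩
    · refine pos_lt_m (lt_of_le_of_lt ?_ (show pos (τ a) < m by rw [hc]; simp [pos]))
      exact hmono (a.val - i.val) i a (by simp [a]; omega)
    · have h2 := hasc k a hk.symm
      have hle := hmono (k.val - i.val) i k (by simp [a] at hk; omega)
      refine pos_lt_m ?_
      rcases hca : τ a with c | c <;> rw [hca] at hlt h2 <;>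
        simp only [pos, Sum.elim_inl, Sum.elim_inr, Sum.swap_inl, Sum.swap_inr] at hlt h2 hle ⊢ <;> omega
  set ψ : Fin m → Fin m := fun i => Sum.elim id id (τ i)
  have hψ : StrictMono ψ := by
    intro i j hij
    have hi : i.val + 1 < m := by rw [Fin.lt_def] at hij; omega
    obtain ⟨c, hc⟩ := hinl i hi
    show (Sum.elim id id (τ i) : Fin m) < Sum.elim id id (τ j)
    rw [hc, Sum.elim_inl, id_eq, Fin.lt_def]
    rw [Fin.lt_def] at hij
    have hlt : pos (τ i) < pos (τ j) :=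
      lt_of_lt_of_le (hasc i ⟨i.val + 1, hi⟩ rfl) (hmono (j.val - (i.val + 1)) _ j (by simp; omega))
    rcases hcj : τ j with d | d
    · rw [hc, hcj] at hlt
      simpa [pos] using hlt
    · by_cases hj : j.val + 1 < m
      · obtain ⟨d', hd'⟩ := hinl j hj
        rw [hcj] at hd'; simp at hd'
      · rcases hlast j (by omega) with ⟨d', hd'⟩ | ⟨k, hk, hlt'⟩
        · rw [hcj] at hd'; simp at hd'
        · have h3 := lt_of_le_of_lt (hmono (k.val - i.val) i k (by omega)) hlt'
          rw [hc, hcj] at h3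
          simpa [pos] using h3
  intro i hi
  obtain ⟨c, hc⟩ : ∃ c, τ i = .inl c := hi.elim (hinl i) id
  have := strictMono_eq hψ i
  simp only [ψ, hc, Sum.elim_inl, id_eq] at this
  rw [hc, this]

namespace OFrame

variable (Φ : OFrame Q m) (hm : Φ.HasCore ∨ 2 ≤ m)

/-- The radical in the group. -/
def unipE : Subgroup ↥(eichGen Q) := Φ.unip.subgroupOf (eichGen Q)

/-- Descents at every fundamental element determine the permutation. -/
theorem long_sends {g : IsoGrp Q} (hg : g ∈ Φ.mono)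
    (h : ∀ j, ∃ x ∈ (Φ.sim hm j).X, g * x * g⁻¹ ∉ Φ.bor) :
    ∀ i : Fin m, (i.val + 1 < m ∨ Φ.HasCore) → Φ.Sends g (.inl i) (.inr i) := by
  have hex : ∀ b : Ix m, ∃ c, Φ.Sends g b c := hg
  choose π hπ using hex
  have hswap : ∀ b, π b.swap = (π b).swap := fun b => Φ.sends_unique (hπ _) (Φ.sends_swap hg (hπ b))
  have hdesc : ∀ A C : Ix m, A ≠ C → (∃ t : F, g * eich Q (Φ.v A) (t • Φ.v C.swap) * g⁻¹ ∉ Φ.bor) →
      pos (π C) < pos (π A) := by
    rintro A C hne ⟨t, ht⟩
    rcases lt_trichotomy (pos (π A)) (pos (π C)) with h | h | h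
    · exact absurd (Φ.unip_le_bor (Φ.conj_pair hg (hπ A) (hπ C) h t)) ht
    · exact absurd (Φ.sends_inj (hπ A) (pos_injective h ▸ hπ C)) hne
    · exact h
  set τ : Fin m → Ix m := fun i => (π (.inl i)).swap
  have hkey := eq_inl_of_ascent τ ?_ ?_
  · intro i hi
    have h1 : τ i = .inl i := hkey i (hi.imp_right fun hc => by
      by_cases hi' : i.val + 1 < m
      · exact ⟨i, hkey i (Or.inl hi')⟩
      obtain ⟨x, hx, hxn⟩ := h i
      rw [Φ.sim_B hm hi' hc] at hx
      obtain ⟨w, hw, rfl⟩ := hx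
      rcases hb : π (.inl i) with b | b
      · exact absurd (Φ.unip_le_bor (Φ.conj_flip hg (hb ▸ hπ (.inl i)) hw)) hxn
      · exact ⟨b, by simp [τ, hb]⟩)
    have h2 : π (.inl i) = .inr i := by simpa using swap_eq_iff.1 h1
    exact h2 ▸ hπ _
  · intro i j hij
    have hi : i.val + 1 < m := by omega
    obtain ⟨x, hx, hxn⟩ := h i
    rw [Φ.sim_adj hm hi] at hx
    obtain ⟨t, rfl⟩ := hx
    rw [show j = ⟨i.val + 1, hi⟩ from Fin.ext hij]
    exact pos_lt_swap (hdesc _ _ (by simp [Fin.ext_iff]) ⟨t, hxn⟩)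
  · intro a ha
    obtain ⟨x, hx, hxn⟩ := h a
    by_cases hc : Φ.HasCore
    · rw [Φ.sim_B hm (by omega) hc] at hx
      obtain ⟨w, hw, rfl⟩ := hx
      rcases hb : π (.inl a) with b | b
      · exact absurd (Φ.unip_le_bor (Φ.conj_flip hg (hb ▸ hπ (.inl a)) hw)) hxn
      · exact Or.inl ⟨b, by simp [τ, hb]⟩
    · have := hm.resolve_left hc
      rw [Φ.sim_D hm (by omega) hc] at hx
      obtain ⟨t, rfl⟩ := hx
      refine Or.inr ⟨⟨a.val - 1, by omega⟩, by simp; omega, ?_⟩
      have h1 := pos_lt_swap (hdesc (.inl ⟨a.val - 1, by omega⟩) (.inr a) (by simp) ⟨t, hxn⟩)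
      rwa [show (Sum.inr a : Ix m) = Sum.swap (.inl a) from rfl, hswap] at h1

/-- The big cell is regular for the radical. -/
theorem free_of_long {g : IsoGrp Q} (hg : ∀ i : Fin m, (i.val + 1 < m ∨ Φ.HasCore) → Φ.Sends g (.inl i) (.inr i))
    {u : IsoGrp Q} (hu : u ∈ Φ.unip) (hc : g⁻¹ * u * g ∈ Φ.bor) : u = 1 := by
  have hf : ∀ i : Fin m, (i.val + 1 < m ∨ Φ.HasCore) → ap u (Φ.f i) = Φ.f i := by
    intro i hi
    obtain ⟨l, hl⟩ := hg i hi
    set z := ap (g⁻¹ * u * g) (Φ.e i) with hz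
    have hz' : z ∈ Φ.low (i.val + 1) := Φ.mem_bor_iff.1 hc i
    have hx : ap u (Φ.f i) = l⁻¹ • ap g z := by
      rw [hz, ← ap_mul, show g * (g⁻¹ * u * g) = u * g by group, ap_mul, hl, map_smul, smul_smul,
        inv_mul_cancel₀ (Φ.sends_ne_zero hl), one_smul]
    have hspan : ∀ y : ι → F, (∀ k : Fin m, k.val ≤ i.val → polar ⇑Q y (Φ.f k) = 0) →
        polar ⇑Q y (ap u (Φ.f i)) = 0 := by
      intro y hy
      have hle : Φ.low (i.val + 1) ≤ (LinearMap.ker (Q.polarBilin y)).comap (ap g) := by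
        refine Φ.low_le_iff.2 fun k hk => ?_
        obtain ⟨r, hr⟩ := hg k (by
          rcases hi with hi | hi
          · exact Or.inl (by omega)
          · exact Or.inr hi)
        show Q.polarBilin y (ap g (Φ.e k)) = 0
        rw [hr, map_smul, show Q.polarBilin y (Φ.v (.inr k)) = polar ⇑Q y (Φ.f k) from rfl, hy k (by omega),
          smul_zero]
      rw [hx, pl_smul_right, show polar ⇑Q y (ap g z) = 0 from hle hz', mul_zero]
    refine sub_eq_zero.1 (Φ.eq_zero_of ?_ fun w hw => ?_)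
    · rintro (k | k)
      · rw [pl_sub_right]
        rcases lt_trichotomy k.val i.val with h | h | h
        · rw [Φ.bor_low_orth hu.1 (k := i.val) (fun j hj => Φ.pl_eq_zero
            (by simp only [Sum.swap_inl, ne_eq, Sum.inr.injEq]; omega)) h,
            Φ.pl_eq_zero (by simp [Fin.ext_iff]; omega), sub_self]
        · obtain rfl : k = i := Fin.ext h
          have h1 := hu.2.1 k
          have h0 : polar ⇑Q (ap u (Φ.e k) - Φ.e k) (ap u (Φ.f k)) = 0 := by
            rw [pl_comm (Q := Q)]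
            refine Φ.low_pl h1 fun j hj => ?_
            rw [pl_comm (Q := Q)]
            exact Φ.bor_low_orth hu.1 (k := k.val) (fun l hl => Φ.pl_eq_zero
              (by simp only [Sum.swap_inl, ne_eq, Sum.inr.injEq]; omega)) hj
          rw [pl_sub_left, polar_ap] at h0
          rw [← sub_eq_zero.1 h0, sub_self]
        · rw [hspan _ fun l hl => Φ.pl_eq_zero (by simp [Fin.ext_iff]; omega),
            Φ.pl_eq_zero (by simp [Fin.ext_iff]; omega), sub_self]
      · rw [pl_sub_right, hspan _ fun l _ => Φ.pl_eq_zero (by simp), Φ.pl_eq_zero (by simp), sub_self]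
    · rw [pl_comm (Q := Q), pl_sub_right, hspan _ fun k _ => Φ.off_pl hw _, Φ.off_pl hw, sub_self]
  have he : ∀ i : Fin m, ap u (Φ.e i) = Φ.e i := by
    intro i
    have h1 := hu.2.1 i
    refine sub_eq_zero.1 ?_
    have h3 : ap u (Φ.e i) - Φ.e i ∈ Φ.low 0 := by
      refine Φ.mem_low (Φ.low_e h1) (fun j _ => ?_) fun w hw => Φ.low_off h1 hw
      by_cases hj : j.val < i.val
      · have hfj := hf j (Or.inl (by omega))
        rw [pl_sub_right, ← hfj, polar_ap, hfj, sub_self]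
      · exact Φ.low_f h1 (not_lt.1 hj)
    simpa [low] using h3
  by_cases hcore : Φ.HasCore
  · refine Φ.ext_of (fun b => ?_) (fun w hw => ?_)
    · rw [ap_one]
      rcases b with i | i
      exacts [he i, hf i (Or.inr hcore)]
    · rw [ap_one]
      have h1 := hu.2.2 w hw
      refine sub_eq_zero.1 ?_
      have h3 : ap u w - w ∈ Φ.low 0 := Φ.mem_low (Φ.low_e h1)
        (fun j _ => by
          have hfj := hf j (Or.inr hcore)
          rw [pl_sub_right, ← hfj, polar_ap, hfj, sub_self]) fun w' hw' => Φ.low_off h1 hw'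
      simpa [low] using h3
  · have hoff := Φ.off_eq_zero hcore
    refine Φ.ext_of (fun b => ?_) (fun w hw => by rw [hoff w hw, map_zero, map_zero])
    rw [ap_one]
    rcases b with i | i
    · exact he i
    by_cases hi : i.val + 1 < m
    · exact hf i (Or.inl hi)
    set y := ap u (Φ.f i) with hy
    have hee : ∀ j, polar ⇑Q (Φ.e j) y = polar ⇑Q (Φ.e j) (Φ.f i) := fun j => by
      rw [hy]; conv_lhs => rw [← he j, polar_ap]
    have hff : ∀ j, j ≠ i → polar ⇑Q (Φ.f j) y = 0 := fun j hj => by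
      have : j.val ≠ i.val := fun e => hj (Fin.ext e)
      rw [hy, ← hf j (Or.inl (by omega)), polar_ap, Φ.pl_eq_zero (by simp)]
    have hsum : y = polar ⇑Q (Φ.f i) y • Φ.e i + Φ.f i := by
      conv_lhs => rw [Φ.decomp y, hoff _ (Φ.proj_off y), add_zero, Fintype.sum_sum_type]
      rw [Finset.sum_eq_single i, Finset.sum_eq_single i, Sum.swap_inl, Sum.swap_inr, hee i, Φ.pl_ef, one_smul]
      · intro j _ hj
        rw [Sum.swap_inr, hee j, Φ.pl_eq_zero (by simp [Ne.symm hj]), zero_smul]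
      · simp
      · intro j _ hj
        rw [Sum.swap_inl, hff j hj, zero_smul]
      · simp
    have h0 : Q y = 0 := by rw [hy, Q_ap, Φ.sing]
    rw [hsum, Q_add, Q_smul, Φ.sing, Φ.sing, pl_smul_left, Φ.pl_ef] at h0
    simp only [mul_zero, zero_add, mul_one] at h0
    show y = Φ.f i
    rw [hsum, h0, zero_smul, zero_add]

/-- The Steinberg character of `eichGen Q` modulo its centre. -/
theorem hasSt_quot (h0 : 0 < m) (hn : 3 ≤ Fintype.card ι) (hm : Φ.HasCore ∨ 2 ≤ m) (p : ℕ) [Fact p.Prime]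
    [CharP F p] (htor : ∀ t ∈ eichGen Q, t ∈ Φ.torus → ∀ k : ℕ, t ^ p ^ k = 1 → t = 1) :
    HasSt p (↥(eichGen Q) ⧸ Subgroup.center ↥(eichGen Q)) := by
  classical
  set D := Φ.rankOne hm h0 hn
  set P := D.pair with hP
  obtain ⟨⟨g₀, hg₀⟩, hw⟩ := QuotientGroup.mk_surjective (BN.w0 P)
  have hg₀' : g₀ ∈ Φ.nGroup hm := hg₀
  have hsends : ∀ i : Fin m, (i.val + 1 < m ∨ Φ.HasCore) → Φ.Sends g₀.1 (.inl i) (.inr i) := by
    refine Φ.long_sends hm (Φ.nGroup_le_mono hm hg₀') fun j => ?_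
    have hd := BN.w0_rightDesc P ⟨Φ.sE hm j, j, rfl⟩
    rw [← hw] at hd
    obtain ⟨x, hx, hnot⟩ := D.exists_conj_not_mem ⟨j, rfl⟩ hg₀ hd
    exact ⟨x.1, hx.1 j rfl, hnot⟩
  have hC : g₀ ∈ BN.C P (BN.w0 P) := hw ▸ BN.self_mem_C P hg₀
  have hsplit : ∀ b ∈ Φ.borE, ∃ t : ↥(eichGen Q), t ∈ Φ.torusE ∧ b * t ∈ Φ.unipE := by
    intro b hb
    obtain ⟨t, ht, hbt⟩ := Φ.exists_diag_fix (show b.1 ∈ Φ.bor from hb)
    have htE : t ∈ eichGen Q := by
      have := mul_mem (inv_mem b.2) (Φ.unip_le_eichGen hbt)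
      rwa [inv_mul_cancel_left] at this
    exact ⟨⟨t, htE⟩, ht, hbt⟩
  have hgen : ∀ b ∈ P.B, ∃ u ∈ Φ.unipE, (b * g₀)⁻¹ * (u * g₀) ∈ P.B := by
    intro b hb
    obtain ⟨t, ht, htu⟩ := hsplit b hb
    refine ⟨b * t, htu, ?_⟩
    rw [show (b * g₀)⁻¹ * (b * t * g₀) = g₀⁻¹ * t * g₀⁻¹⁻¹ by group]
    exact Φ.torus_le_bor (Φ.torus_normalized (Φ.mono.inv_mem (Φ.nGroup_le_mono hm hg₀')) ht)
  have hfree : ∀ u ∈ Φ.unipE, g₀⁻¹ * u * g₀ ∈ P.B → u = 1 := fun u hu hB =>
    Subtype.ext (Φ.free_of_long hsends hu hB)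
  have hU : Φ.unipE ≤ P.B := fun _ h => Φ.unip_le_bor h
  obtain ⟨hdeg, hvan⟩ := BN.St_of_regular P Φ.unipE hU hC hgen hfree
  -- the radical is a Sylow subgroup
  have hUp : IsPGroup p Φ.unipE := Φ.unip_pGroup p
  have huniq : ∀ g : ↥(eichGen Q), (∀ u ∈ Φ.unipE, g⁻¹ * u * g ∈ P.B) → g ∈ P.B := by
    intro g hg
    obtain ⟨w, hgw⟩ := BN.exists_mem_C P g
    induction w using QuotientGroup.induction_on with
    | H n =>
      obtain ⟨b, hb, b', hb', rfl⟩ := (BN.mem_C_mk P).1 hgw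
      have hn' : ∀ u ∈ Φ.unipE, (n : ↥(eichGen Q))⁻¹ * u * n ∈ P.B := by
        intro u hu
        have h1 := hg (b * u * b⁻¹) (Φ.unip_conj (show b.1 ∈ Φ.bor from hb) hu)
        have h2 := mul_mem (mul_mem hb' h1) (inv_mem hb')
        convert h2 using 1
        group
      suffices (n : ↥(eichGen Q)) ∈ P.B from mul_mem (mul_mem hb this) hb'
      by_contra hnB
      have hne : BN.wOf P (inv_mem n.2) ≠ 1 := fun h => hnB (by
        simpa using inv_mem ((BN.wOf_eq_one_iff P (inv_mem n.2)).1 h))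
      obtain ⟨⟨_, j, rfl⟩, -, hd⟩ := (BN.hasExchange P).exists_rightDesc_on (A := Set.univ)
        (by rw [Set.image_univ, (BN.hasExchange P).gen]; trivial) hne
      obtain ⟨x, hx, hnot⟩ := D.exists_conj_not_mem ⟨j, rfl⟩ (inv_mem n.2) hd
      refine hnot ?_
      rw [inv_inv]
      exact hn' x ((Φ.sim hm j).X_le x.1 (hx.1 j rfl))
  obtain ⟨S, hS⟩ := hUp.exists_le_sylow
  have hfix : MulAction.fixedPoints Φ.unipE (↥(eichGen Q) ⧸ P.B) = {((1 : ↥(eichGen Q)) : _ ⧸ P.B)} := by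
    refine Set.eq_singleton_iff_unique_mem.2 ⟨fun u => ?_, fun q hq => ?_⟩
    · show (((u : ↥(eichGen Q)) * 1 : ↥(eichGen Q)) : _ ⧸ P.B) = _
      exact QuotientGroup.eq.2 (by simpa using hU u.2)
    · induction q using QuotientGroup.induction_on with
      | H g =>
        have hgB : g ∈ P.B := huniq g fun u hu => by
          have := QuotientGroup.eq.1 (show ((u * g : ↥(eichGen Q)) : _ ⧸ P.B) = (g : _ ⧸ P.B) from hq ⟨u, hu⟩).symm
          rwa [← mul_assoc] at this
        exact QuotientGroup.eq.2 (by simpa using hgB)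
  have hidx : ¬ p ∣ Nat.card (↥(eichGen Q) ⧸ P.B) := by
    intro hdvd
    have := hUp.card_modEq_card_fixedPoints (↥(eichGen Q) ⧸ P.B)
    rw [hfix, Nat.card_coe_set_eq, Set.ncard_singleton] at this
    exact (Fact.out : p.Prime).not_dvd_one
      (Nat.modEq_zero_iff_dvd.1 (this.symm.trans (Nat.modEq_zero_iff_dvd.2 hdvd)))
  obtain ⟨q, hq⟩ := S.2.nonempty_fixed_point_of_prime_not_dvd_card (↥(eichGen Q) ⧸ P.B) hidx
  induction q using QuotientGroup.induction_on with
  | H g =>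
  have hgS : ∀ x ∈ S, g⁻¹ * x * g ∈ P.B := fun x hx => by
    have := QuotientGroup.eq.1 (show ((x * g : ↥(eichGen Q)) : _ ⧸ P.B) = (g : _ ⧸ P.B) from hq ⟨x, hx⟩).symm
    rwa [← mul_assoc] at this
  have hgB : g ∈ P.B := huniq g fun u hu => hgS u (hS hu)
  have hSU : (S : Subgroup ↥(eichGen Q)) = Φ.unipE := by
    refine le_antisymm (fun x hx => ?_) hS
    have hxB : x ∈ P.B := by
      have := mul_mem (mul_mem hgB (hgS x hx)) (inv_mem hgB)
      convert this using 1
      group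
    obtain ⟨t, ht, htu⟩ := hsplit x hxB
    have htS : t ∈ S := by
      have := mul_mem (inv_mem (show x ∈ (S : Subgroup ↥(eichGen Q)) from hx)) (hS htu)
      rwa [inv_mul_cancel_left] at this
    obtain ⟨k, hk⟩ := S.2 ⟨t, htS⟩
    have hk' : (t : IsoGrp Q) ^ p ^ k = 1 := congrArg (fun z : (S : Subgroup ↥(eichGen Q)) => (z.1.1 : IsoGrp Q)) hk
    obtain rfl : t = 1 := Subtype.ext (htor _ t.2 ht k hk')
    rwa [mul_one] at htu
  refine hasSt_deflate _ (BN.isIrrCharacter_St P) S ?_ ?_ fun z hz => ?_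
  · rw [hdeg]
    exact congrArg _ (congrArg (fun H : Subgroup ↥(eichGen Q) => Nat.card H) hSU).symm
  · intro x hx hx1
    exact hvan x (hSU ▸ hx) hx1
  · have hzT : z.1 ∈ Φ.torus := by
      obtain ⟨a, -, ha⟩ := (Φ.hpair (.inl ⟨0, h0⟩)).scalar_of_fix Φ.nd hn fun v hv0 hv => by
        obtain ⟨y, hp⟩ := exists_hpair_left Φ.nd hv hv0
        obtain ⟨w, hw, hQw⟩ := hp.exists_nonsing_perp Φ.nd hn
        exact fix_of_commute_eich Φ.nd hv hv0 (mem_perp.1 hw).1 hQw (congrArg Subtype.val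
          ((Subgroup.mem_center_iff.1 hz ⟨eich Q v w, eich_mem_eichGen v w⟩).symm))
      exact fun b => ⟨a, ha _⟩
    simp only [BN.St]
    refine Finset.sum_congr rfl fun A _ => ?_
    congr 1
    simp only [Cfsg.fixedPointCharacter]
    congr 1
    refine Nat.card_congr (Equiv.subtypeEquivRight fun x => ?_)
    show z • x = x ↔ (1 : ↥(eichGen Q)) • x = x
    rw [one_smul]
    refine iff_of_true ?_ rfl
    induction x using QuotientGroup.induction_on with
    | H y =>
      rw [MulAction.Quotient.smul_coe, smul_eq_mul, (Subgroup.mem_center_iff.1 hz y).symm]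
      exact QuotientGroup.mk_mul_of_mem y (BN.le_parabolic _ _ (Φ.torus_le_bor hzT))

end OFrame

end Cfsg.Agent.OrthBN
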